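import Cfsg.Agent.Lib.J4Line.Structure

/-!
# The action of the normaliser on the line and the size of the centraliser
-/

set_option autoImplicit false
set_option linter.unusedSectionVars false
set_option linter.unusedVariables false

namespace Cfsg.Agent.Lib.J4Line

open Cfsg.Agent.Lib.J4Local Cfsg.Agent.Lib.LargeExtraspecial.Basic

variable {G : Type*} [Group G] [Finite G] {X : Subgroup G} {a b c : G}

namespace IsLam

variable (h : IsLam X)
include h

/-- Two cosets of a four-group fill the line. -/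
theorem eight (ha : a ∈ X) (h1 : a ≠ 1) (hb : b ∈ X) (hb1 : b ≠ 1) (hba : b ≠ a) (hc : c ∈ X)
    (hc' : c ∉ ({1, a, b, a * b} : Set G)) {y : G} (hy : y ∈ X) :
    y ∈ ({1, a, b, a * b} : Set G) ∨ c * y ∈ ({1, a, b, a * b} : Set G) := by
  classical
  have hab := h.comm ha hb
  have hsa := h.sq ha
  have hsb := h.sq hb
  have hne : a * b ≠ 1 := h.mul_ne_one ha hb hba
  set P : Finset G := {1, a, b, a * b}
  have hP : P.card = 4 := by
    have e1 : a * b ≠ a := fun e => hb1 (mul_eq_left.mp e)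
    have e2 : a * b ≠ b := fun e => h1 (mul_eq_right.mp e)
    simp only [P]
    rw [Finset.card_insert_of_notMem, Finset.card_insert_of_notMem, Finset.card_insert_of_notMem,
      Finset.card_singleton] <;> simp [Ne.symm h1, Ne.symm hb1, Ne.symm hne, Ne.symm hba, Ne.symm e1,
      Ne.symm e2]
  have hmem : ∀ {w : G}, w ∈ P ↔ w ∈ ({1, a, b, a * b} : Set G) := fun {w} => by simp [P]
  have hPX : ∀ w ∈ P, w ∈ X := fun w hw => by
    rcases hmem.mp hw with rfl | rfl | rfl | rfl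
    exacts [one_mem _, ha, hb, mul_mem ha hb]
  have hmul : ∀ v ∈ P, ∀ w ∈ P, v * w ∈ P := by
    intro v hv w hw
    have k1 : a * (a * b) = b := by rw [← mul_assoc, hsa, one_mul]
    have k2 : b * a = a * b := hab.eq.symm
    have k3 : b * (a * b) = a := by rw [← mul_assoc, k2, mul_assoc, hsb, mul_one]
    have k4 : a * b * a = b := by rw [mul_assoc, k2, k1]
    have k5 : a * b * b = a := by rw [mul_assoc, hsb, mul_one]
    have k6 : a * b * (a * b) = 1 := by rw [← mul_assoc, k4, hsb]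
    rcases hmem.mp hv with rfl | rfl | rfl | rfl <;> rcases hmem.mp hw with rfl | rfl | rfl | rfl <;>
      simp [P, hsa, hsb, k1, k2, k3, k4, k5, k6]
  have hcard : (P ∪ P.image (c * ·)).card = 8 := by
    rw [Finset.card_union_of_disjoint, Finset.card_image_of_injective _ (mul_right_injective c), hP]
    refine Finset.disjoint_left.mpr fun w hw hw' => hc' ?_
    obtain ⟨v, hv, rfl⟩ := Finset.mem_image.mp hw'
    have := hmul _ hw _ hv
    rw [mul_assoc, h.sq (hPX v hv), mul_one] at this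
    exact hmem.mp this
  have hsub : ((P ∪ P.image (c * ·) : Finset G) : Set G) ⊆ (X : Set G) := fun w hw => by
    rcases Finset.mem_union.mp (Finset.mem_coe.mp hw) with hw | hw
    · exact hPX w hw
    · obtain ⟨v, hv, rfl⟩ := Finset.mem_image.mp hw
      exact mul_mem hc (hPX v hv)
  have hEq := Set.eq_of_subset_of_ncard_le hsub
    (by rw [Set.ncard_coe_finset, hcard, ← Nat.card_coe_set_eq, SetLike.coe_sort_coe, h.card])
    (Set.toFinite _)
  have hy' : y ∈ P ∪ P.image (c * ·) := Finset.mem_coe.mp (hEq.symm ▸ hy)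
  rcases Finset.mem_union.mp hy' with hy' | hy'
  · exact Or.inl (hmem.mp hy')
  · obtain ⟨v, hv, rfl⟩ := Finset.mem_image.mp hy'
    refine Or.inr ?_
    rw [← mul_assoc, h.sq hc, one_mul]
    exact hmem.mp hv

/-- An element centralising a basis centralises the line. -/
theorem mem_centralizer_of_basis (ha : a ∈ X) (h1 : a ≠ 1) (hb : b ∈ X) (hb1 : b ≠ 1) (hba : b ≠ a)
    (hc : c ∈ X) (hc' : c ∉ ({1, a, b, a * b} : Set G)) {g : G} (ga : Commute g a) (gb : Commute g b)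
    (gc : Commute g c) : g ∈ Subgroup.centralizer (X : Set G) := by
  have hP : ∀ w ∈ ({1, a, b, a * b} : Set G), Commute g w := by
    rintro w (rfl | rfl | rfl | rfl)
    exacts [Commute.one_right g, ga, gb, ga.mul_right gb]
  refine Subgroup.mem_centralizer_iff.mpr fun y hy => ?_
  rcases h.eight ha h1 hb hb1 hba hc hc' hy with hw | hw
  · exact (hP y hw).eq.symm
  · have := gc.mul_right (hP _ hw)
    rw [← mul_assoc, h.sq hc, one_mul] at this
    exact this.eq.symm

omit h in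
theorem mem_normalizer_of_forall {g : G} (hg : ∀ x ∈ X, g * x * g⁻¹ ∈ X) :
    g ∈ Subgroup.normalizer (X : Set G) := by
  have heq : X.map (MulAut.conj g).toMonoidHom = X :=
    Subgroup.eq_of_le_of_card_ge (by rintro _ ⟨x, hx, rfl⟩; exact hg x hx)
      (le_of_eq (Subgroup.card_map_of_injective (MulAut.conj g).injective).symm)
  rw [Subgroup.mem_normalizer_iff]
  intro x
  refine ⟨hg x, fun hx => ?_⟩
  rw [← heq] at hx
  obtain ⟨y, hy, hyx⟩ := hx
  rwa [← mul_left_cancel (mul_right_cancel (hyx : g * y * g⁻¹ = g * x * g⁻¹))]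

/-- A transvection with centre `a` fixing `b` and moving `c`. -/
theorem move (F : AutFacts) (ha : a ∈ X) (h1 : a ≠ 1) (hb : b ∈ X) (hb1 : b ≠ 1) (hba : b ≠ a)
    (hc : c ∈ X) (hc' : c ∉ ({1, a, b, a * b} : Set G)) :
    ∃ f ∈ Subgroup.normalizer (X : Set G), f ∈ cQ a b ∧ f * c * f⁻¹ = c * a ∧ f * a * f⁻¹ = a ∧
      f * b * f⁻¹ = b := by
  obtain ⟨f, hf, hfC⟩ := h.exists_transvection F ha h1 hb hb1 hba
  obtain ⟨hfa, hfb⟩ := mem_cQ.mp hf
  have hN : f ∈ Subgroup.normalizer (X : Set G) := mem_normalizer_of_forall fun x hx => by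
    rcases h.cQ_conj ha h1 hfa hx with e | e <;> rw [e]
    exacts [hx, mul_mem hx ha]
  have hca : Commute f a := isQ.commute hfa
  refine ⟨f, hN, hf, (h.cQ_conj ha h1 hfa hc).resolve_left fun e => ?_,
    mul_inv_eq_iff_eq_mul.mpr hca.eq, mul_inv_eq_iff_eq_mul.mpr hfb.eq⟩
  exact hfC (h.mem_centralizer_of_basis ha h1 hb hb1 hba hc hc' hca hfb (mul_inv_eq_iff_eq_mul.mp e))

theorem card_centralizer_le (F : AutFacts) :
    Nat.card ↥(Subgroup.centralizer (X : Set G)) ≤ 2 ^ 15 * 120 := by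
  obtain ⟨a, ha, h1, -⟩ := h.exists_other 1
  obtain ⟨b, hb, hb1, hba⟩ := h.exists_other a
  obtain ⟨c, hc, hc1, hca, hcb, hcab⟩ := h.exists_third a b
  have hc' : c ∉ ({1, a, b, a * b} : Set G) := by simp [hc1, hca, hcb, hcab]
  have hba' : b * a = a * b := (h.comm hb ha).eq
  obtain ⟨f, -, hf, hfc, hfa, hfb⟩ := h.move F ha h1 hb hb1 hba hc hc'
  obtain ⟨s, -, hs, hsc, hsb, hsa⟩ := h.move F hb hb1 ha h1 (Ne.symm hba) hc
    (by simp [hc1, hca, hcb, hba', hcab])
  obtain ⟨q, S, hS⟩ := h.base a ha h1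
  obtain ⟨r, T, hT⟩ := h.base b hb hb1
  obtain ⟨k, hdvd, hk⟩ := S.card_stab F T (hS hb) hba
  set C := Subgroup.centralizer (X : Set G)
  set st := cz a ⊓ cz b
  have hCst : C ≤ st := fun g hg => ⟨mem_cz.mpr (Subgroup.mem_centralizer_iff.mp hg a ha).symm,
    mem_cz.mpr (Subgroup.mem_centralizer_iff.mp hg b hb).symm⟩
  have hfs : f ∈ st := ⟨mem_cz.mpr (mul_inv_eq_iff_eq_mul.mp hfa), mem_cz.mpr (mul_inv_eq_iff_eq_mul.mp hfb)⟩
  have hss : s ∈ st := ⟨mem_cz.mpr (mul_inv_eq_iff_eq_mul.mp hsa), mem_cz.mpr (mul_inv_eq_iff_eq_mul.mp hsb)⟩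
  let ev : ↥st ⧸ C.subgroupOf st → G := Quotient.lift (fun g => (g : G) * c * (g : G)⁻¹) (fun g g' hgg => by
    have hm : g⁻¹ * g' ∈ C.subgroupOf st := QuotientGroup.leftRel_apply.mp hgg
    have hm' : Commute ((g : G)⁻¹ * g') c := (Subgroup.mem_centralizer_iff.mp hm c hc).symm
    show (g : G) * c * (g : G)⁻¹ = g' * c * (g' : G)⁻¹
    rw [show (g' : G) * c * (g' : G)⁻¹ = g * ((g : G)⁻¹ * g' * c * ((g : G)⁻¹ * g')⁻¹) * (g : G)⁻¹ by group,
      mul_inv_eq_iff_eq_mul.mpr hm'.eq])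
  have hev : ({c, c * a, c * b, c * b * a} : Set G) ⊆ Set.range ev := by
    have key : ∀ g : ↥st, (g : G) * c * (g : G)⁻¹ ∈ Set.range ev := fun g => ⟨QuotientGroup.mk g, rfl⟩
    rintro y (rfl | rfl | rfl | rfl)
    · simpa using key 1
    · simpa [hfc] using key ⟨f, hfs⟩
    · simpa [hsc] using key ⟨s, hss⟩
    · have := key ⟨f * s, mul_mem hfs hss⟩
      rwa [show ((⟨f * s, mul_mem hfs hss⟩ : ↥st) : G) = f * s from rfl,
        show f * s * c * (f * s)⁻¹ = f * (s * c * s⁻¹) * f⁻¹ by group, hsc,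
        show f * (c * b) * f⁻¹ = f * c * f⁻¹ * (f * b * f⁻¹) by group, hfc, hfb, mul_assoc, ← hba',
        ← mul_assoc] at this
  have h4 : 4 ≤ (C.subgroupOf st).index := by
    have hne : b * a ≠ 1 := h.mul_ne_one hb ha (Ne.symm hba)
    have hab : a ≠ b * a := fun e => hb1 (mul_eq_right.mp e.symm)
    have hbb : b ≠ b * a := fun e => h1 (mul_eq_left.mp e.symm)
    have h4' : ({c, c * a, c * b, c * b * a} : Set G).ncard = 4 := by
      rw [Set.ncard_insert_of_notMem, Set.ncard_insert_of_notMem, Set.ncard_insert_of_notMem,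
        Set.ncard_singleton] <;>
        simp [mul_assoc, mul_right_inj, h1, hb1, Ne.symm hba, hne, hab, hbb]
    rw [← h4', Subgroup.index, ← Nat.card_coe_set_eq]
    refine (Nat.card_le_card_of_injective _ (Set.inclusion_injective hev)).trans ?_
    exact Nat.card_le_card_of_surjective _ Set.rangeFactorization_surjective
  have hmul := Subgroup.card_mul_index (C.subgroupOf st)
  rw [Nat.card_congr (Subgroup.subgroupOfEquivOfLe hCst).toEquiv, hk] at hmul
  have hk' : k ≤ 3840 := Nat.le_of_dvd (by norm_num) hdvd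
  nlinarith [Nat.mul_le_mul_left (Nat.card ↥C) h4]

/-- The normaliser is transitive on the seven points. -/
theorem transitive (F : AutFacts) (ha : a ∈ X) (h1 : a ≠ 1) (hb : b ∈ X) (hb1 : b ≠ 1) :
    ∃ g ∈ Subgroup.normalizer (X : Set G), g * a * g⁻¹ = b := by
  by_cases hba : b = a
  · exact ⟨1, one_mem _, by simp [hba]⟩
  have hne := h.mul_ne_one ha hb hba
  have hab := h.comm ha hb
  obtain ⟨x, hx, hx1, hxa, hxb, hxab⟩ := h.exists_third a b
  have hca : a ∉ ({1, a * b, x, a * b * x} : Set G) := by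
    simp only [Set.mem_insert_iff, Set.mem_singleton_iff, not_or]
    refine ⟨h1, fun e => hb1 (mul_eq_left.mp e.symm), Ne.symm hxa, fun e => hxb ?_⟩
    rw [mul_assoc] at e
    exact (eq_inv_of_mul_eq_one_right (mul_eq_left.mp e.symm)).trans
      (inv_eq_of_mul_eq_one_right (h.sq hb))
  obtain ⟨f, hfN, -, hfc, -, -⟩ := h.move F (mul_mem ha hb) hne hx hx1 hxab ha hca
  exact ⟨f, hfN, by rw [hfc, ← mul_assoc, h.sq ha, one_mul]⟩

/-- The stabiliser of a point is transitive on the others. -/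
theorem transitive_two (F : AutFacts) (ha : a ∈ X) (h1 : a ≠ 1) (hb : b ∈ X) (hb1 : b ≠ 1)
    (hba : b ≠ a) (hc : c ∈ X) (hc1 : c ≠ 1) (hca : c ≠ a) :
    ∃ g ∈ Subgroup.normalizer (X : Set G), g * a * g⁻¹ = a ∧ g * b * g⁻¹ = c := by
  by_cases hcb : c = b
  · exact ⟨1, one_mem _, by simp, by simp [hcb]⟩
  have hne := h.mul_ne_one hb hc hcb
  have hfin : b * (b * c) = c := by rw [← mul_assoc, h.sq hb, one_mul]
  by_cases he : b * c = a
  · obtain ⟨x, hx, hx1, hxa, hxb, hxab⟩ := h.exists_third a b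
    have hb' : b ∉ ({1, a, x, a * x} : Set G) := by
      simp only [Set.mem_insert_iff, Set.mem_singleton_iff, not_or]
      refine ⟨hb1, hba, Ne.symm hxb, fun e => hxab ?_⟩
      rw [e, ← mul_assoc, h.sq ha, one_mul]
    obtain ⟨f, hfN, -, hfc, hfa, -⟩ := h.move F ha h1 hx hx1 hxa hb hb'
    exact ⟨f, hfN, hfa, by rw [hfc, ← he, hfin]⟩
  · have hb' : b ∉ ({1, b * c, a, b * c * a} : Set G) := by
      simp only [Set.mem_insert_iff, Set.mem_singleton_iff, not_or]
      refine ⟨hb1, fun e => hc1 (mul_eq_left.mp e.symm), hba, fun e => hca ?_⟩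
      rw [mul_assoc] at e
      exact (eq_inv_of_mul_eq_one_left (mul_eq_left.mp e.symm)).trans
        (inv_eq_of_mul_eq_one_right (h.sq ha))
    obtain ⟨f, hfN, -, hfc, -, hfa⟩ := h.move F (mul_mem hb hc) hne ha h1 (Ne.symm he) hb hb'
    exact ⟨f, hfN, hfa, by rw [hfc, hfin]⟩

omit h in
theorem normalizerMonoidHom_coe (g : ↥(Subgroup.normalizer (X : Set G))) (x : ↥X) :
    ((X.normalizerMonoidHom g x : ↥X) : G) = (g : G) * x * (g : G)⁻¹ := rfl

/-- Every automorphism of the line is induced. -/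
theorem surjective (F : AutFacts) : Function.Surjective X.normalizerMonoidHom := by
  intro φ
  obtain ⟨a, ha, h1, -⟩ := h.exists_other 1
  obtain ⟨b, hb, hb1, hba⟩ := h.exists_other a
  obtain ⟨c, hc, hc1, hca, hcb, hcab⟩ := h.exists_third a b
  have hφ1 : ∀ {x : ↥X}, (x : G) ≠ 1 → ((φ x : ↥X) : G) ≠ 1 := fun {x} hx e => hx <| by
    have : φ x = 1 := Subtype.ext e
    rw [map_eq_one_iff φ φ.injective] at this
    rw [this]; rfl
  set a' : G := ((φ ⟨a, ha⟩ : ↥X) : G) with ha'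
  set b' : G := ((φ ⟨b, hb⟩ : ↥X) : G) with hb'
  set c' : G := ((φ ⟨c, hc⟩ : ↥X) : G) with hc''
  have haX : a' ∈ X := (φ ⟨a, ha⟩).2
  have hbX : b' ∈ X := (φ ⟨b, hb⟩).2
  have hcX : c' ∈ X := (φ ⟨c, hc⟩).2
  have hinj : ∀ {u v : G} (hu : u ∈ X) (hv : v ∈ X),
      ((φ ⟨u, hu⟩ : ↥X) : G) = ((φ ⟨v, hv⟩ : ↥X) : G) → u = v := fun hu hv e =>
    congrArg Subtype.val (φ.injective (Subtype.ext e))
  obtain ⟨g1, hg1, e1⟩ := h.transitive F ha h1 haX (hφ1 h1)
  have hm : ∀ {g x : G}, g ∈ Subgroup.normalizer (X : Set G) → x ∈ X → g * x * g⁻¹ ∈ X :=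
    fun hg hx => (Subgroup.mem_normalizer_iff.mp hg _).mp hx
  obtain ⟨g2, hg2, e2a, e2b⟩ := h.transitive_two F haX (hφ1 h1) (hm hg1 hb)
    (fun e => hb1 (conj_eq_one_iff.mp e)) (fun e => hba <| by
      rw [← e1] at e; exact mul_left_cancel (mul_right_cancel e)) hbX (hφ1 hb1)
    (fun e => hba (hinj hb ha e))
  set g := g2 * g1
  have hg : g ∈ Subgroup.normalizer (X : Set G) := mul_mem hg2 hg1
  have ea : g * a * g⁻¹ = a' := by
    rw [show g * a * g⁻¹ = g2 * (g1 * a * g1⁻¹) * g2⁻¹ by simp only [g]; group, e1, e2a]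
  have eb : g * b * g⁻¹ = b' := by
    rw [show g * b * g⁻¹ = g2 * (g1 * b * g1⁻¹) * g2⁻¹ by simp only [g]; group, e2b]
  set d := g * c * g⁻¹
  have hd : d ∈ X := hm hg hc
  have hba' : b' ≠ a' := fun e => hba (hinj hb ha e)
  have hd' : d ∉ ({1, a', b', a' * b'} : Set G) := by
    have inj : ∀ {x : G}, d = g * x * g⁻¹ → c = x := fun e => mul_left_cancel (mul_right_cancel e)
    simp only [Set.mem_insert_iff, Set.mem_singleton_iff, not_or]
    refine ⟨fun e => hc1 (conj_eq_one_iff.mp e), fun e => hca (inj (e.trans ea.symm)),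
      fun e => hcb (inj (e.trans eb.symm)), fun e => hcab (inj ?_)⟩
    rw [e, ← ea, ← eb]; group
  have hc0 : c' ∉ ({1, a', b', a' * b'} : Set G) := by
    simp only [Set.mem_insert_iff, Set.mem_singleton_iff, not_or]
    refine ⟨hφ1 hc1, fun e => hca (hinj hc ha e), fun e => hcb (hinj hc hb e),
      fun e => hcab (hinj hc (mul_mem ha hb) (e.trans ?_))⟩
    rw [show (⟨a * b, mul_mem ha hb⟩ : ↥X) = ⟨a, ha⟩ * ⟨b, hb⟩ from rfl, map_mul]; rfl
  -- correct the image of `c`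
  obtain ⟨f, hf, efa, efb, efd⟩ : ∃ f ∈ Subgroup.normalizer (X : Set G),
      f * a' * f⁻¹ = a' ∧ f * b' * f⁻¹ = b' ∧ f * d * f⁻¹ = c' := by
    have hfin : ∀ {w : G}, d * c' = w → d * w = c' := fun e => by
      rw [← e, ← mul_assoc, h.sq hd, one_mul]
    rcases h.eight haX (hφ1 h1) hbX (hφ1 hb1) hba' hd hd' hcX with hw | hw
    · exact absurd hw hc0
    simp only [Set.mem_insert_iff, Set.mem_singleton_iff, not_or] at hd'
    rcases hw with hw | hw | hw | hw
    · refine ⟨1, one_mem _, by simp, by simp, ?_⟩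
      have e' := hfin hw
      rw [mul_one] at e'
      simpa using e'
    · obtain ⟨f, hfN, -, hfd, hfe, hfx⟩ := h.move F haX (hφ1 h1) hbX (hφ1 hb1) hba' hd (by simp [hd'])
      exact ⟨f, hfN, hfe, hfx, hfd.trans (hfin hw)⟩
    · obtain ⟨f, hfN, -, hfd, hfe, hfx⟩ := h.move F hbX (hφ1 hb1) haX (hφ1 h1) (Ne.symm hba') hd
        (by simp [hd', (h.comm hbX haX).eq])
      exact ⟨f, hfN, hfx, hfe, hfd.trans (hfin hw)⟩
    · have k1 : a' * b' * a' = b' := by
        rw [(h.comm haX hbX).eq, mul_assoc, h.sq haX, mul_one]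
      obtain ⟨f, hfN, -, hfd, hfe, hfx⟩ := h.move F (mul_mem haX hbX) (h.mul_ne_one haX hbX hba') haX
        (hφ1 h1) (fun e => hφ1 hb1 (mul_eq_left.mp e.symm)) hd (by simp [hd', k1])
      refine ⟨f, hfN, hfx, ?_, hfd.trans (hfin hw)⟩
      rw [show f * b' * f⁻¹ = (f * a' * f⁻¹)⁻¹ * (f * (a' * b') * f⁻¹) by group, hfx, hfe, inv_mul_cancel_left]
  refine ⟨⟨f * g, mul_mem hf hg⟩, MulEquiv.ext fun x => Subtype.ext ?_⟩
  rw [normalizerMonoidHom_coe]
  have key : ∀ w ∈ ({1, a, b, a * b} : Set G), ∀ hw : w ∈ X,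
      f * g * w * (f * g)⁻¹ = ((φ ⟨w, hw⟩ : ↥X) : G) := by
    have ka : f * g * a * (f * g)⁻¹ = a' := by
      rw [show f * g * a * (f * g)⁻¹ = f * (g * a * g⁻¹) * f⁻¹ by group, ea, efa]
    have kb : f * g * b * (f * g)⁻¹ = b' := by
      rw [show f * g * b * (f * g)⁻¹ = f * (g * b * g⁻¹) * f⁻¹ by group, eb, efb]
    rintro w (rfl | rfl | rfl | rfl) hw
    · rw [show (⟨1, hw⟩ : ↥X) = 1 from rfl, map_one]; simp
    · exact ka
    · exact kb
    · rw [show f * g * (a * b) * (f * g)⁻¹ = f * g * a * (f * g)⁻¹ * (f * g * b * (f * g)⁻¹) by group,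
        ka, kb, show (⟨a * b, hw⟩ : ↥X) = ⟨a, ha⟩ * ⟨b, hb⟩ from rfl, map_mul]
      rfl
  rcases h.eight ha h1 hb hb1 hba hc (by simp [hc1, hca, hcb, hcab]) x.2 with hw | hw
  · exact key _ hw x.2
  · have hcx := mul_mem hc x.2
    have hx : (x : G) = c * (c * x) := by rw [← mul_assoc, h.sq hc, one_mul]
    have hx' : x = ⟨c, hc⟩ * ⟨c * x, hcx⟩ := Subtype.ext hx
    show f * g * (x : G) * (f * g)⁻¹ = _
    conv_rhs => rw [hx', map_mul]
    refine (congrArg (fun w => f * g * w * (f * g)⁻¹) hx).trans ?_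
    rw [show f * g * (c * (c * x)) * (f * g)⁻¹ = f * (g * c * g⁻¹) * f⁻¹ * (f * g * (c * x) * (f * g)⁻¹)
      by group, key _ hw hcx]
    rw [show f * (g * c * g⁻¹) * f⁻¹ = c' from efd]
    rfl

theorem normalizer_bigL (F : AutFacts) (hp : PairGen X) :
    Subgroup.normalizer (bigL X : Set G) = Subgroup.normalizer (X : Set G) := by
  refine le_antisymm (fun g hg => mem_normalizer_of_forall fun x hx => ?_) fun g hg => ?_
  · have hgL : g * x * g⁻¹ ∈ bigL X := (Subgroup.mem_normalizer_iff.mp hg x).mp (h.le_bigL hx)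
    have hcen : (⟨g * x * g⁻¹, hgL⟩ : ↥(bigL X)) ∈ Subgroup.center ↥(bigL X) := by
      refine Subgroup.mem_center_iff.mpr fun y => Subtype.ext ?_
      have hy : g⁻¹ * y * g ∈ bigL X :=
        (Subgroup.mem_normalizer_iff.mp hg _).mpr (by simpa [mul_assoc] using y.2)
      have hxy : Commute x (g⁻¹ * y * g) :=
        Subgroup.mem_centralizer_iff.mp (bigL_le_centralizer hy) x hx
      have := hxy.symm.map (MulAut.conj g)
      simpa [mul_assoc] using this.eq
    rw [h.center_bigL F hp, Subgroup.mem_subgroupOf] at hcen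
    exact hcen
  · have key : ∀ {g : G}, g ∈ Subgroup.normalizer (X : Set G) →
        bigL X ≤ (bigL X).comap (MulAut.conj g).toMonoidHom := by
      intro g hg
      refine iSup_le fun ⟨a, ha, h1⟩ => fun y hy => ?_
      show g * y * g⁻¹ ∈ bigL X
      have hga := (Subgroup.mem_normalizer_iff.mp hg a).mp ha
      refine ySub_le_bigL hga (fun e => h1 (conj_eq_one_iff.mp e)) (mem_ySub.mpr ⟨isQ.mem_conj g hy.1, fun l hl => ?_⟩)
      have hl' : g⁻¹ * l * g ∈ X := (Subgroup.mem_normalizer_iff.mp hg _).mpr (by simpa [mul_assoc] using hl)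
      have := ((mem_ySub.mp hy).2 _ hl').map (MulAut.conj g)
      simpa [mul_assoc] using this
    refine Subgroup.mem_normalizer_iff.mpr fun y => ⟨fun hy => key hg hy, fun hy => ?_⟩
    have := key (inv_mem hg) hy
    simpa [mul_assoc] using this

end IsLam

end Cfsg.Agent.Lib.J4Line
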