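import Cfsg.Agent.Lib.J4Local.PairT
import Cfsg.Agent.Lib.J4Local.PairFive
import Cfsg.Agent.Lib.J4Local.FusionOuter
import Cfsg.Agent.Lib.OffenderComp.Facts

/-!
# A line of conjugates of `z` and the structure around it

`IsLam X`: a group of order eight, each of whose seven involutions is a base point whose core contains it
and sees it as the line through any other of its involutions.
-/

set_option autoImplicit false
set_option linter.unusedSectionVars false
set_option linter.unusedVariables false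

namespace Cfsg.Agent.Lib.J4Line

open Cfsg.Agent.Lib.J4Local Cfsg.Agent.Lib.LargeExtraspecial.Basic

variable {G : Type*} [Group G]

/-- A line, seen symmetrically. -/
structure IsLam (X : Subgroup G) : Prop where
  card : Nat.card ↥X = 8
  base : ∀ a ∈ X, a ≠ 1 → ∃ q, Setting a q ∧ X ≤ Q a
  adj : ∀ a ∈ X, a ≠ 1 → ∀ b ∈ X, b ≠ 1 → b ≠ a → ∀ q, Setting a q → line a q b = X

/-- The part of the core at `a` centralising the line. -/
def ySub (X : Subgroup G) (a : G) : Subgroup G := Q a ⊓ Subgroup.centralizer (X : Set G)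

theorem mem_ySub {X : Subgroup G} {a x : G} :
    x ∈ ySub X a ↔ x ∈ Q a ∧ ∀ l ∈ X, Commute l x :=
  and_congr Iff.rfl Subgroup.mem_centralizer_iff

variable [Finite G] {z p e q : G}

theorem exists_isLam [IsSimpleGroup G] (hG : ¬ IsMulCommutative G) (S : Setting z p) (F : AutFacts) :
    ∃ X : Subgroup G, IsLam X ∧ z ∈ X := by
  obtain ⟨e₀, he₀, hc₀, hne₀⟩ := S.exists_fused hG F
  obtain ⟨g₀, rfl⟩ := isConj_iff.mp hc₀
  obtain ⟨f, hf, htri⟩ := S.exists_tri F (S.conj g₀) he₀ hne₀
  set e := f * (g₀ * z * g₀⁻¹) * f⁻¹ with hedef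
  have T : Setting e (f * (g₀ * p * g₀⁻¹) * f⁻¹) := (S.conj g₀).conj f
  set q := f * (g₀ * p * g₀⁻¹) * f⁻¹
  have he : e ∈ Q z := mul_mem (mul_mem hf he₀) (inv_mem hf)
  have hne : e ≠ z := fun h => hne₀ <| by
    have h' := congrArg (fun x => f⁻¹ * x * f) h
    simp only [hedef] at h'
    rw [show f⁻¹ * z * f = z by rw [mul_assoc, ← (S.es.comm f hf).eq, inv_mul_cancel_left]] at h'
    simpa [mul_assoc] using h'
  set X := line z p e with hX
  have hXI : X ≤ Q z ⊓ Q e := S.line_le_inter F T he hne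
  have hc : ∀ {a b}, a ∈ X → b ∈ X → Commute a b := fun ha hb => S.comm_pair T hne (hXI ha) (hXI hb)
  have hsq : ∀ {a}, a ∈ X → a * a = 1 := fun ha => S.sq_pair T hne (hXI ha)
  set e2 := p * e * p⁻¹ with he2
  have h2X : e2 ∈ X := pe_mem_line z p e
  have hinv : ∀ a ∈ X, p * a * p⁻¹ ∈ X := fun a ha => by
    rw [hX, ← S.mSub_eq_line F T he hne] at ha ⊢
    exact S.mSub_invariant F T he hne ha
  -- every involution is conjugate to `z`
  have hshape : ∀ a ∈ X, ∃ i j k : ℕ, a = z ^ i * e ^ j * e2 ^ k := by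
    intro a ha
    induction ha using Subgroup.closure_induction with
    | mem x hx =>
      rcases hx with rfl | rfl | rfl
      · exact ⟨1, 0, 0, by simp⟩
      · exact ⟨0, 1, 0, by simp⟩
      · exact ⟨0, 0, 1, by simp [he2]⟩
    | one => exact ⟨0, 0, 0, by simp⟩
    | mul x y hx hy ihx ihy =>
      obtain ⟨i, j, k, rfl⟩ := ihx
      obtain ⟨i', j', k', rfl⟩ := ihy
      refine ⟨i + i', j + j', k + k', ?_⟩
      rw [pow_add, pow_add, pow_add]
      have c1 : Commute (z ^ i') (e ^ j) := (hc (z_mem_line z p e) (e_mem_line z p e)).pow_pow _ _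
      have c2 : Commute (z ^ i') (e2 ^ k) := (hc (z_mem_line z p e) h2X).pow_pow _ _
      have c3 : Commute (e ^ j') (e2 ^ k) := (hc (e_mem_line z p e) h2X).pow_pow _ _
      calc z ^ i * e ^ j * e2 ^ k * (z ^ i' * e ^ j' * e2 ^ k')
          = z ^ i * e ^ j * (e2 ^ k * z ^ i') * e ^ j' * e2 ^ k' := by group
        _ = z ^ i * (e ^ j * z ^ i') * (e2 ^ k * e ^ j') * e2 ^ k' := by rw [← c2.eq]; group
        _ = _ := by rw [← c1.eq, ← c3.eq]; group
    | inv x hx ih =>
      rwa [inv_eq_of_mul_eq_one_right (hsq hx)]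
  have hconjz : ∀ b, IsConj z b → b ∈ Q z → b ≠ z → IsConj z (b * z) := fun b hb hbQ hbz => by
    obtain ⟨g, hg⟩ := isConj_iff.mp hb
    obtain ⟨y, -, hy⟩ := S.es.exists_conj_ne hbQ (by rw [← hg]; exact (S.conj g).z_ne_one) hbz
    exact hb.trans (isConj_iff.mpr ⟨y, hy⟩)
  have hce : IsConj z e := isConj_iff.mpr ⟨f * g₀, by rw [hedef]; group⟩
  have hce2 : IsConj z e2 := hce.trans (isConj_iff.mpr ⟨p, rfl⟩)
  have h3 : e * e2 = p * e2 * p⁻¹ := htri.symm
  have hce3 : IsConj z (e * e2) := by rw [h3]; exact hce2.trans (isConj_iff.mpr ⟨p, rfl⟩)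
  have hall : ∀ a ∈ X, a ≠ 1 → IsConj z a := by
    intro a ha h1
    obtain ⟨i, j, k, rfl⟩ := hshape a ha
    have hz' : z ^ i = 1 ∨ z ^ i = z := by
      rcases Nat.even_or_odd' i with ⟨m, rfl | rfl⟩
      · exact Or.inl (by rw [pow_mul, sq, S.z_sq, one_pow])
      · exact Or.inr (by rw [pow_succ, pow_mul, sq, S.z_sq, one_pow, one_mul])
    have hj : e ^ j = 1 ∨ e ^ j = e := by
      rcases Nat.even_or_odd' j with ⟨m, rfl | rfl⟩
      · exact Or.inl (by rw [pow_mul, sq, hsq (e_mem_line z p e), one_pow])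
      · exact Or.inr (by rw [pow_succ, pow_mul, sq, hsq (e_mem_line z p e), one_pow, one_mul])
    have hk : e2 ^ k = 1 ∨ e2 ^ k = e2 := by
      rcases Nat.even_or_odd' k with ⟨m, rfl | rfl⟩
      · exact Or.inl (by rw [pow_mul, sq, hsq h2X, one_pow])
      · exact Or.inr (by rw [pow_succ, pow_mul, sq, hsq h2X, one_pow, one_mul])
    have hw : e ^ j * e2 ^ k = 1 ∨ IsConj z (e ^ j * e2 ^ k) := by
      rcases hj with hj | hj <;> rcases hk with hk | hk <;> rw [hj, hk]
      · exact Or.inl (one_mul 1)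
      · exact Or.inr (by rwa [one_mul])
      · exact Or.inr (by rwa [mul_one])
      · exact Or.inr hce3
    have hwX : e ^ j * e2 ^ k ∈ X := mul_mem (pow_mem (e_mem_line z p e) _) (pow_mem h2X _)
    rw [mul_assoc] at ha h1 ⊢
    rcases hz' with hz' | hz' <;> rw [hz'] at ha h1 ⊢
    · rw [one_mul] at ha h1 ⊢
      exact hw.resolve_left h1
    · rcases hw with hw | hw
      · rw [hw, mul_one]
      · rw [(hc (z_mem_line z p e) hwX).eq]
        refine hconjz _ hw (hXI hwX).1 fun h => h1 ?_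
        rw [h, S.z_sq]
  have hset : ∀ a ∈ X, a ≠ 1 → ∃ r, Setting a r := fun a ha h1 => by
    obtain ⟨g, rfl⟩ := isConj_iff.mp (hall a ha h1)
    exact ⟨_, S.conj g⟩
  have hcard := S.card_line F T he hne
  -- seen from `z`, any other involution spans it
  have hz_adj : ∀ b ∈ X, b ≠ 1 → b ≠ z → ∀ p', Setting z p' → line z p' e = X →
      line z p' b = X := by
    intro b hb hb1 hbz p' S' hS'
    obtain ⟨r, R⟩ := hset b hb hb1
    refine Subgroup.eq_of_le_of_card_ge ?_ (by rw [hcard, S'.card_line F R (hXI hb).1 hbz])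
    rw [line, Subgroup.closure_le]
    rintro x (rfl | rfl | rfl)
    · exact z_mem_line _ p e
    · exact hb
    · rw [← hS', ← S'.mSub_eq_line F T he hne] at hb ⊢
      exact S'.mSub_invariant F T he hne hb
  -- the same line for every element of order three at `z`
  have hzp : ∀ p', Setting z p' → line z p' e = X := fun p' S' =>
    ((S'.line_symm F T he hne).symm.trans (S.line_symm F T he hne))
  -- from any other involution `a` the line through `z` is the same
  have hfrom : ∀ a ∈ X, a ≠ 1 → a ≠ z → ∀ r, Setting a r → line a r z = X := fun a ha h1 haz r R => by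
    rw [S.line_symm F R (hXI ha).1 haz]
    exact hz_adj a ha h1 haz p S rfl
  refine ⟨X, ⟨hcard, fun a ha h1 => ?_, ?_⟩, z_mem_line z p e⟩
  · obtain ⟨r, R⟩ := hset a ha h1
    refine ⟨r, R, ?_⟩
    by_cases haz : a = z
    · subst haz; exact hXI.trans inf_le_left
    · rw [← hfrom a ha h1 haz r R]
      exact (R.line_le_inter F S (S.mem_swap F R (hXI ha).1 haz) (Ne.symm haz)).trans inf_le_left
  · intro a ha h1 b hb hb1 hba r R
    by_cases haz : a = z
    · subst haz
      exact hz_adj b hb hb1 hba r R (hzp r R)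
    have hzQ := S.mem_swap F R (hXI ha).1 haz
    have hl := hfrom a ha h1 haz r R
    obtain ⟨s, T'⟩ := hset b hb hb1
    have hlQ := R.line_le_inter F S hzQ (Ne.symm haz)
    rw [hl] at hlQ
    refine Subgroup.eq_of_le_of_card_ge ?_ (by rw [hcard, R.card_line F T' (hlQ hb).1 hba])
    rw [line, Subgroup.closure_le]
    rintro x (rfl | rfl | rfl)
    · exact ha
    · exact hb
    · rw [← hl, ← R.mSub_eq_line F S hzQ (Ne.symm haz)] at hb ⊢
      exact R.mSub_invariant F S hzQ (Ne.symm haz) hb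

end Cfsg.Agent.Lib.J4Line
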