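import Cfsg.Agent.Lib.J4Line.Action
import Cfsg.Agent.Lib.J4Five.Fix
import Cfsg.Agent.Lib.J4Five.Linear
import Cfsg.Agent.Lib.FischerLarge99.GLThree

/-!
# Elements of order five at a line, and the order of its centraliser
-/

set_option autoImplicit false
set_option linter.unusedSectionVars false
set_option linter.unusedVariables false
set_option linter.style.haveILetI false

namespace Cfsg.Agent.Lib.J4Line

open Cfsg.Agent.Lib.J4Local Cfsg.Agent.Lib.LargeExtraspecial.Basic
open scoped Pointwise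
open Cfsg.Agent.Lib.FischerLarge99 (SL32 card_SL32 simple_SL32 exists_action)

variable {G : Type*} [Group G] [Finite G] {X : Subgroup G} {z : G}

/-- The 5-local and 7-local statements at `z` that are used. -/
structure Rows (z : G) : Prop where
  five : ∀ Q : Subgroup G, Nat.card ↥Q = 5 → Q ≤ Subgroup.centralizer ({z} : Set G) →
    ¬ (25 ∣ Nat.card G) ∧
    (∃ J : Subgroup G, Cfsg.IsInternalDirectProduct Q J (Subgroup.centralizer (Q : Set G)) ∧
      ∃ (E : Subgroup ↥J) (_ : E.Normal), Cfsg.IsElementaryAbelian 2 E ∧ Nat.card ↥E = 8 ∧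
        Nonempty (↥J ⧸ E ≃* Matrix.SpecialLinearGroup (Fin 3) (ZMod 2)) ∧ ∀ K : Subgroup ↥J, ¬ E.IsComplement' K) ∧
    (∃ R : Subgroup G, Q ≤ R ∧ R ≤ Subgroup.normalizer (Q : Set G) ∧ Nat.card ↥R = 20 ∧ R ⊓ Subgroup.centralizer (Q : Set G) = Q) ∧
    Nat.card ↥(Subgroup.normalizer (Q : Set G)) = 2 ^ 8 * 3 * 5 * 7
  seven : ∀ S : Subgroup G, Nat.card ↥S = 7 → S ≤ Subgroup.centralizer ({z} : Set G) →
    ¬ (49 ∣ Nat.card G) ∧
    (∃ I : Subgroup G, Cfsg.IsInternalDirectProduct S I (Subgroup.centralizer (S : Set G)) ∧ Nonempty (↥I ≃* Equiv.Perm (Fin 5))) ∧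
    Nat.card ↥(Subgroup.normalizer (S : Set G)) = 3 * Nat.card ↥(Subgroup.centralizer (S : Set G)) ∧
    Nat.card ↥(Subgroup.normalizer (S : Set G)) = 2 ^ 3 * 3 ^ 2 * 5 * 7

/-- Subgroups of order `p` of a subgroup whose order is not divisible by `p²` are conjugate in it. -/
theorem conj_prime {M : Subgroup G} {p : ℕ} [Fact p.Prime] (h : ¬ p ^ 2 ∣ Nat.card ↥M) {a b : G}
    (ha : a ∈ M) (hb : b ∈ M) (hoa : orderOf a = p) (hob : orderOf b = p) :
    ∃ m ∈ M, m * a * m⁻¹ ∈ Subgroup.zpowers b := by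
  have key : ∀ {c : ↥M}, orderOf c = p → ∃ P : Sylow p ↥M, (P : Subgroup ↥M) = Subgroup.zpowers c := by
    intro c hc
    refine ⟨Sylow.ofCard (Subgroup.zpowers c) ?_, rfl⟩
    have hdvd : p ∣ Nat.card ↥M := hc ▸ orderOf_dvd_natCard c
    have hpp : p.Prime := Fact.out
    have h1 := hpp.factorization_pos_of_dvd Nat.card_pos.ne' hdvd
    have h2 : ¬ 2 ≤ (Nat.card ↥M).factorization p := fun h2 =>
      h ((hpp.pow_dvd_iff_le_factorization Nat.card_pos.ne').mpr h2)
    rw [Nat.card_zpowers, hc, show (Nat.card ↥M).factorization p = 1 by omega, pow_one]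
  obtain ⟨P, hP⟩ := key (c := ⟨a, ha⟩) (by rw [Subgroup.orderOf_mk, hoa])
  obtain ⟨R, hR⟩ := key (c := ⟨b, hb⟩) (by rw [Subgroup.orderOf_mk, hob])
  obtain ⟨m, hm⟩ := MulAction.exists_smul_eq ↥M P R
  have h2 : m * ⟨a, ha⟩ * m⁻¹ ∈ ((m • P : Sylow p ↥M) : Subgroup ↥M) :=
    Subgroup.smul_mem_pointwise_smul _ (MulAut.conj m) _ (hP.ge (Subgroup.mem_zpowers _))
  rw [hm, hR] at h2
  obtain ⟨i, hi⟩ := h2
  exact ⟨m, m.2, i, congrArg Subtype.val hi⟩

theorem zpowers_conj_eq {a b g : G} {p : ℕ} (hoa : orderOf a = p) (hob : orderOf b = p)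
    (h : g * a * g⁻¹ ∈ Subgroup.zpowers b) : Subgroup.zpowers (g * a * g⁻¹) = Subgroup.zpowers b := by
  refine Subgroup.eq_of_le_of_card_ge (Subgroup.zpowers_le.mpr h) ?_
  rw [Nat.card_zpowers, Nat.card_zpowers, hob, ← hoa]
  exact le_of_eq (MulEquiv.orderOf_eq (MulAut.conj g) a).symm

theorem mem_normalizer_zpowers {a g : G} {p : ℕ} (hoa : orderOf a = p)
    (h : g * a * g⁻¹ ∈ Subgroup.zpowers a) : g ∈ Subgroup.normalizer (Subgroup.zpowers a : Set G) := by
  refine IsLam.mem_normalizer_of_forall fun x hx => ?_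
  obtain ⟨i, rfl⟩ := hx
  rw [← conj_zpow]
  exact zpow_mem h i

theorem cent_zpowers (a : G) : Subgroup.centralizer (Subgroup.zpowers a : Set G) = cz a := by
  rw [Subgroup.zpowers_eq_closure, Subgroup.centralizer_closure]

/-- In a direct product with coprime orders an element of the order of the second factor lies in it. -/
theorem mem_right_of_pow {A B C : Subgroup G} (h : Cfsg.IsInternalDirectProduct A B C) {n : ℕ}
    (hn : (Nat.card ↥A).Coprime n) {x : G} (hx : x ∈ C) (hxn : x ^ n = 1) : x ∈ B := by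
  obtain ⟨-, -, hcomm, hinf, hsup⟩ := h
  rw [← hsup] at hx
  have hn' : A ≤ Subgroup.normalizer (B : Set G) := fun a ha => IsLam.mem_normalizer_of_forall
    fun b hb => by rw [hcomm a ha b hb, mul_inv_cancel_right]; exact hb
  have hx' : x ∈ (A : Set G) * (B : Set G) := by
    rw [← Subgroup.coe_mul_of_left_le_normalizer_right A B hn']; exact hx
  obtain ⟨a, ha, b, hb, rfl⟩ := Set.mem_mul.mp hx'
  have hab : Commute a b := hcomm a ha b hb
  rw [hab.mul_pow] at hxn
  have h1 : a ^ n = 1 := Subgroup.mem_bot.mp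
    (hinf ▸ ⟨A.pow_mem ha n, (eq_inv_of_mul_eq_one_left hxn) ▸ B.inv_mem (B.pow_mem hb n)⟩)
  have h2 : orderOf a ∣ Nat.card ↥A := Subgroup.orderOf_mk a ha ▸ orderOf_dvd_natCard _
  rw [orderOf_eq_one_iff.mp (Nat.eq_one_of_dvd_coprimes hn h2 (orderOf_dvd_of_pow_eq_one h1)), one_mul]
  exact hb

theorem card_product {A B C : Subgroup G} (h : Cfsg.IsInternalDirectProduct A B C) :
    Nat.card ↥C = Nat.card ↥A * Nat.card ↥B := by
  obtain ⟨-, -, hcomm, hinf, hsup⟩ := h
  have := OffenderComp.Aux.card_sup_inf (H := A) (K := B) fun a ha => IsLam.mem_normalizer_of_forall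
    fun b hb => by rw [hcomm a ha b hb, mul_inv_cancel_right]; exact hb
  rwa [hsup, hinf, Subgroup.card_bot, mul_one] at this

/-- A fourth power of an element normalising a group of order five centralises it. -/
theorem commute_pow_four {q g : G} (hq : orderOf q = 5)
    (hg : g ∈ Subgroup.normalizer (Subgroup.zpowers q : Set G)) : Commute (g ^ 4) q := by
  have hq5 : q ^ 5 = 1 := hq ▸ pow_orderOf_eq_one q
  obtain ⟨i, hi⟩ := (Subgroup.mem_normalizer_iff.mp hg q).mp (Subgroup.mem_zpowers q)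
  have hi' : g * q * g⁻¹ = q ^ i := hi.symm
  have h1 : ∀ j : ℤ, g * q ^ j * g⁻¹ = q ^ (i * j) := fun j => by
    rw [← conj_zpow, hi', ← zpow_mul]
  have h4 : g ^ 4 * q * (g ^ 4)⁻¹ = q ^ (i * (i * (i * i))) := by
    rw [show g ^ 4 * q * (g ^ 4)⁻¹ = g * (g * (g * (g * q * g⁻¹) * g⁻¹) * g⁻¹) * g⁻¹ by
      rw [pow_succ, pow_succ, pow_succ, pow_one]; group, hi', h1, h1, h1]
  have hq' : q ^ (5 : ℤ) = 1 := by rw [show (5 : ℤ) = ((5 : ℕ) : ℤ) from rfl, zpow_natCast, hq5]
  have hq1 : q ≠ 1 := fun e => by rw [e, orderOf_one] at hq; norm_num at hq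
  have hmod : (i * (i * (i * i))) % 5 = 1 := by
    have hr : i % 5 = 0 ∨ i % 5 = 1 ∨ i % 5 = 2 ∨ i % 5 = 3 ∨ i % 5 = 4 := by omega
    rcases hr with hr | hr | hr | hr | hr
    · exfalso
      rw [← Int.emod_add_mul_ediv i 5, hr, zero_add, zpow_mul, hq', one_zpow] at hi'
      exact hq1 (conj_eq_one_iff.mp hi')
    all_goals simp [Int.mul_emod, hr]
  refine mul_inv_eq_iff_eq_mul.mp ?_
  rw [h4, ← Int.emod_add_mul_ediv (i * (i * (i * i))) 5, hmod, zpow_add, zpow_one, zpow_mul, hq',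
    one_zpow, mul_one]

namespace IsLam

theorem card_normalizer (h : IsLam X) (F : AutFacts) :
    Nat.card ↥(Subgroup.normalizer (X : Set G)) = Nat.card ↥(Subgroup.centralizer (X : Set G)) * 168 := by
  have hle : Subgroup.centralizer (X : Set G) ≤ Subgroup.normalizer (X : Set G) :=
    Subgroup.centralizer_le_normalizer _
  have h1 := Subgroup.card_mul_index X.normalizerMonoidHom.ker
  rw [Subgroup.index_ker, MonoidHom.range_eq_top.mpr (h.surjective F), Subgroup.card_top,
    J4Five.Linear.card_mulAut (fun a => Subtype.ext (h.sq a.2)) h.card, Subgroup.normalizerMonoidHom_ker,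
    Nat.card_congr (Subgroup.subgroupOfEquivOfLe hle).toEquiv] at h1
  exact h1.symm

theorem exists_phi (h : IsLam X) (F : AutFacts) :
    ∃ φ : ↥(Subgroup.normalizer (X : Set G)) →* SL32, Function.Surjective φ ∧
      ∀ l, φ l = 1 ↔ (l : G) ∈ Subgroup.centralizer (X : Set G) := by
  obtain ⟨φ, hφ⟩ := exists_action X (fun x hx => h.sq hx) h.card
  have hle : Subgroup.centralizer (X : Set G) ≤ Subgroup.normalizer (X : Set G) :=
    Subgroup.centralizer_le_normalizer _
  refine ⟨φ, MonoidHom.range_eq_top.mp (Subgroup.eq_top_of_le_card _ (le_of_eq ?_)), hφ⟩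
  have h1 := Subgroup.card_mul_index φ.ker
  rw [show φ.ker = (Subgroup.centralizer (X : Set G)).subgroupOf (Subgroup.normalizer (X : Set G)) from
    Subgroup.ext fun l => by rw [MonoidHom.mem_ker, hφ, Subgroup.mem_subgroupOf]] at h1
  rw [Nat.card_congr (Subgroup.subgroupOfEquivOfLe hle).toEquiv, h.card_normalizer F] at h1
  rw [card_SL32, ← Subgroup.index_ker,
    show φ.ker = (Subgroup.centralizer (X : Set G)).subgroupOf (Subgroup.normalizer (X : Set G)) from
    Subgroup.ext fun l => by rw [MonoidHom.mem_ker, hφ, Subgroup.mem_subgroupOf]]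
  exact (Nat.eq_of_mul_eq_mul_left Nat.card_pos h1).symm

end IsLam

/-- What an element of order five in the centraliser of the line gives. -/
structure FiveData (X : Subgroup G) (q : G) : Prop where
  order : orderOf q = 5
  mem : q ∈ Subgroup.centralizer (X : Set G)
  cent_le : cz q ≤ Subgroup.normalizer (X : Set G)
  norm_le : Subgroup.normalizer (Subgroup.zpowers q : Set G) ≤ Subgroup.normalizer (X : Set G)
  card_cent : Nat.card ↥(Subgroup.centralizer (X : Set G) ⊓ cz q) = 40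
  card_norm : Nat.card ↥(Subgroup.centralizer (X : Set G) ⊓
    Subgroup.normalizer (Subgroup.zpowers q : Set G)) = 160

theorem IsLam.exists_five (h : IsLam X) (F : AutFacts) (R : Rows z) (hz : z ∈ X) (hz1 : z ≠ 1) :
    ∃ q, FiveData X q := by
  haveI := Fact.mk Nat.prime_five
  haveI := simple_SL32
  obtain ⟨p, S, hS⟩ := h.base z hz hz1
  obtain ⟨b, hb, hb1, hbz⟩ := h.exists_other z
  obtain ⟨r, T, hT⟩ := h.base b hb hb1
  obtain ⟨q, hq, hqz, hqb, hqi, -⟩ := S.exists_five F T (hS hb) hbz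
  set C := Subgroup.centralizer (X : Set G)
  set N := Subgroup.normalizer (X : Set G)
  have hCN : C ≤ N := Subgroup.centralizer_le_normalizer _
  have hline := h.adj z hz hz1 b hb hb1 hbz p S
  have hqc : Commute q (p * b * p⁻¹) := by
    rcases (S.inner_iff_fix (hS hb) hb1 hbz hqz hqb).mp hqi with e | e
    · exact mul_inv_eq_iff_eq_mul.mp e
    · exfalso
      have hfix : q * z * q⁻¹ = z := mul_inv_eq_iff_eq_mul.mpr hqz.eq
      have h5 : ∀ n : ℕ, q ^ n * (p * b * p⁻¹) * (q ^ n)⁻¹ = p * b * p⁻¹ * z ^ n := by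
        intro n
        induction n with
        | zero => simp
        | succ n ih =>
          rw [show q ^ (n + 1) * (p * b * p⁻¹) * (q ^ (n + 1))⁻¹ =
            q * (q ^ n * (p * b * p⁻¹) * (q ^ n)⁻¹) * q⁻¹ by rw [pow_succ']; group, ih,
            show q * (p * b * p⁻¹ * z ^ n) * q⁻¹ = q * (p * b * p⁻¹) * q⁻¹ * (q * z * q⁻¹) ^ n by
              rw [conj_pow]; group, hfix, e, mul_assoc, ← pow_succ']
      have := h5 5
      have hz5 : z ^ 5 = z := by
        rw [pow_succ, show (4 : ℕ) = 2 * 2 from rfl, pow_mul, pow_two z, S.z_sq, one_pow, one_mul]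
      rw [← hq, pow_orderOf_eq_one, hq, one_mul, inv_one, mul_one, hz5] at this
      exact hz1 (mul_eq_left.mp this.symm)
  have hqC : q ∈ C := by
    rw [show C = Subgroup.centralizer (line z p b : Set G) by rw [hline], line, Subgroup.centralizer_closure,
      Subgroup.mem_centralizer_iff]
    rintro x (rfl | rfl | rfl)
    exacts [hqz.eq.symm, hqb.eq.symm, hqc.eq.symm]
  set Qs := Subgroup.zpowers q with hQs
  have hQc : Nat.card ↥Qs = 5 := by rw [hQs, Nat.card_zpowers, hq]
  obtain ⟨h25, ⟨J, hJ, E, hEn, -, hE8, ⟨eJ⟩, -⟩, -, hNQ⟩ :=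
    R.five Qs hQc (Subgroup.zpowers_le.mpr (mem_cz.mpr hqz))
  have hJc : Nat.card ↥J = 8 * 168 := by
    have h1 := Subgroup.card_eq_card_quotient_mul_card_subgroup E
    rw [Nat.card_congr eJ.toEquiv, card_SL32, hE8] at h1
    omega
  have hCQ : Nat.card ↥(cz q) = 6720 := by
    rw [← cent_zpowers, card_product hJ, hJc, hQc]
  obtain ⟨φ, hφs, hφ⟩ := h.exists_phi F
  have h25C : ¬ 5 ^ 2 ∣ Nat.card ↥C := fun e => h25 (e.trans (Subgroup.card_subgroup_dvd_card C))
  -- every automorphism comes from the normaliser of the group of order five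
  have hlift : ∀ y : SL32, ∃ g : ↥N, φ g = y ∧ (g : G) ∈ Subgroup.normalizer (Qs : Set G) := by
    intro y
    obtain ⟨g, rfl⟩ := hφs y
    have hgq : (g : G) * q * (g : G)⁻¹ ∈ C := by
      refine Subgroup.mem_centralizer_iff.mpr fun x hx => ?_
      have hx' : (g : G)⁻¹ * x * g ∈ X :=
        (Subgroup.mem_normalizer_iff.mp g.2 _).mpr (by simpa [mul_assoc] using hx)
      have hc : Commute ((g : G)⁻¹ * x * g) q := Subgroup.mem_centralizer_iff.mp hqC _ hx'
      have := hc.map (MulAut.conj (g : G))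
      simpa [mul_assoc] using this.eq
    obtain ⟨c, hc, hcq⟩ := conj_prime h25C hgq hqC
      ((MulEquiv.orderOf_eq (MulAut.conj (g : G)) q).trans hq) hq
    refine ⟨⟨c, hCN hc⟩ * g, by rw [map_mul, (hφ ⟨c, hCN hc⟩).mpr hc, one_mul], ?_⟩
    refine mem_normalizer_zpowers hq ?_
    simpa [mul_assoc] using hcq
  set CN : Subgroup ↥N := (cz q).subgroupOf N
  have honto : CN.map φ = ⊤ := by
    have hn : (CN.map φ).Normal := ⟨by
      rintro _ ⟨d, hd, rfl⟩ y
      obtain ⟨g, rfl, hg⟩ := hlift y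
      refine ⟨g * d * g⁻¹, ?_, by simp⟩
      obtain ⟨i, hi⟩ :=
        (Subgroup.mem_normalizer_iff.mp ((Subgroup.normalizer (Qs : Set G)).inv_mem hg) q).mp (Subgroup.mem_zpowers q)
      have hi' : (g : G)⁻¹ * q * g = q ^ i := by simpa using hi.symm
      have hdi : Commute (d : G) (q ^ i) := (mem_cz.mp hd).zpow_right i
      rw [← hi'] at hdi
      exact mem_cz.mpr (by simpa [mul_assoc] using hdi.map (MulAut.conj (g : G)))⟩
    refine (hn.eq_bot_or_eq_top).resolve_left fun hbot => ?_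
    obtain ⟨y, hy⟩ := exists_prime_orderOf_dvd_card' (G := SL32) 3 (by rw [card_SL32]; norm_num)
    obtain ⟨g, hg, hgn⟩ := hlift y
    have : y ^ 4 ∈ CN.map φ :=
      ⟨g ^ 4, mem_cz.mpr (by simpa using commute_pow_four hq hgn), by rw [map_pow, hg]⟩
    rw [hbot, Subgroup.mem_bot] at this
    have := orderOf_dvd_of_pow_eq_one this
    rw [hy] at this
    norm_num at this
  have hcount : Nat.card ↥(N ⊓ cz q : Subgroup G) = Nat.card ↥(C ⊓ cz q : Subgroup G) * 168 := by
    let ψ : ↥(N ⊓ cz q : Subgroup G) →* SL32 := φ.comp (Subgroup.inclusion inf_le_left)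
    have hψ : ψ.range = ⊤ := by
      rw [eq_top_iff]
      intro y _
      obtain ⟨d, hd, rfl⟩ : y ∈ CN.map φ := honto ▸ Subgroup.mem_top y
      exact ⟨⟨d, d.2, hd⟩, rfl⟩
    have h1 := Subgroup.card_mul_index ψ.ker
    rw [Subgroup.index_ker, hψ, Subgroup.card_top, card_SL32] at h1
    rw [← h1]
    congr 1
    exact Nat.card_congr
      { toFun := fun x => ⟨x.1.1, ⟨(hφ _).mp x.2, x.1.2.2⟩⟩
        invFun := fun x => ⟨⟨x.1, hCN x.2.1, x.2.2⟩, (hφ _).mpr x.2.1⟩
        left_inv := fun x => rfl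
        right_inv := fun x => rfl }
  set QX := Qs ⊔ X
  have hQX : Nat.card ↥QX = 40 := by
    have := OffenderComp.Aux.card_sup_inf (H := Qs) (K := X)
      ((Subgroup.zpowers_le.mpr hqC).trans hCN)
    have hi : Nat.card ↥(Qs ⊓ X) ∣ Nat.gcd 5 8 := by
      refine Nat.dvd_gcd ?_ ?_
      · exact hQc ▸ Subgroup.card_dvd_of_le inf_le_left
      · exact h.card ▸ Subgroup.card_dvd_of_le inf_le_right
    rw [show Nat.gcd 5 8 = 1 from rfl, Nat.dvd_one] at hi
    rw [hi, mul_one, hQc, h.card] at this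
    exact this
  have hQXle : QX ≤ C ⊓ cz q := sup_le
    (Subgroup.zpowers_le.mpr ⟨hqC, mem_cz.mpr (Commute.refl q)⟩)
    fun x hx => ⟨Subgroup.mem_centralizer_iff.mpr fun y hy => (h.comm hy hx).eq,
      mem_cz.mpr (Subgroup.mem_centralizer_iff.mp hqC x hx)⟩
  have h40 : 40 ≤ Nat.card ↥(C ⊓ cz q : Subgroup G) := hQX ▸ Subgroup.card_le_of_le hQXle
  have hNle := Subgroup.card_le_of_le (inf_le_right : N ⊓ cz q ≤ cz q)
  rw [hcount, hCQ] at hNle
  have hc40 : Nat.card ↥(C ⊓ cz q : Subgroup G) = 40 := by omega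
  have hcN : cz q ≤ N := by
    rw [← Subgroup.eq_of_le_of_card_ge (inf_le_right : N ⊓ cz q ≤ cz q) (by rw [hcount, hc40, hCQ])]
    exact inf_le_left
  have hQXeq : C ⊓ cz q = QX :=
    (Subgroup.eq_of_le_of_card_ge hQXle (by rw [hc40, hQX])).symm
  have hnN : Subgroup.normalizer (Qs : Set G) ≤ N := by
    intro g hg
    refine IsLam.mem_normalizer_of_forall fun x hx => ?_
    set U : Subgroup ↥N := (X.map (MulAut.conj g).toMonoidHom).subgroupOf N
    have hconjq : ∀ {d : G}, d ∈ cz q → g * d * g⁻¹ ∈ cz q := by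
      intro d hd
      obtain ⟨i, hi⟩ := (Subgroup.mem_normalizer_iff.mp ((Subgroup.normalizer (Qs : Set G)).inv_mem hg) q).mp
        (Subgroup.mem_zpowers q)
      have hi' : g⁻¹ * q * g = q ^ i := by simpa using hi.symm
      have hdi : Commute d (q ^ i) := (mem_cz.mp hd).zpow_right i
      rw [← hi'] at hdi
      exact mem_cz.mpr (by simpa [mul_assoc] using hdi.map (MulAut.conj g))
    have hXq : ∀ y ∈ X, g * y * g⁻¹ ∈ cz q := fun y hy =>
      hconjq (mem_cz.mpr (Subgroup.mem_centralizer_iff.mp hqC y hy))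
    -- its image in `SL(3,2)` is a normal 2-subgroup
    have hbot : U.map φ = ⊥ := by
      have hn : (U.map φ).Normal := ⟨by
        rintro _ ⟨u, hu, rfl⟩ y
        obtain ⟨d, hd, rfl⟩ : y ∈ CN.map φ := honto ▸ Subgroup.mem_top y
        refine ⟨d * u * d⁻¹, ?_, by simp⟩
        obtain ⟨w, hw, hwu⟩ := Subgroup.mem_subgroupOf.mp hu
        have hwu' : g * w * g⁻¹ = (u : G) := hwu
        have hgd : g⁻¹ * (d : G) * g ∈ N := hcN (by
          have := fun (d' : G) (h' : d' ∈ cz q) => hconjq h'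
          obtain ⟨i, hi⟩ := (Subgroup.mem_normalizer_iff.mp hg q).mp (Subgroup.mem_zpowers q)
          have hdi : Commute (d : G) (q ^ i) := (mem_cz.mp hd).zpow_right i
          rw [show q ^ i = g * q * g⁻¹ from hi] at hdi
          exact mem_cz.mpr (by simpa [mul_assoc] using hdi.map (MulAut.conj g⁻¹)))
        refine Subgroup.mem_subgroupOf.mpr ⟨_, (Subgroup.mem_normalizer_iff.mp hgd w).mp hw, ?_⟩
        show g * (g⁻¹ * (d : G) * g * w * (g⁻¹ * (d : G) * g)⁻¹) * g⁻¹ = ((d * u * d⁻¹ : ↥N) : G)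
        rw [Subgroup.coe_mul, Subgroup.coe_mul, Subgroup.coe_inv, ← hwu']
        group⟩
      refine (hn.eq_bot_or_eq_top).resolve_right fun htop => ?_
      have hd := Subgroup.card_map_dvd U φ
      rw [htop, Subgroup.card_top, card_SL32] at hd
      have h8 : Nat.card ↥U ∣ 8 := by
        have he : Nat.card ↥(X.map (MulAut.conj g).toMonoidHom) = 8 :=
          (Subgroup.card_map_of_injective (MulAut.conj g).injective).trans h.card
        rw [← he]
        refine Subgroup.card_dvd_of_injective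
          ({ toFun := fun u => ⟨u.1.1, u.2⟩, map_one' := rfl, map_mul' := fun _ _ => rfl } :
            ↥U →* ↥(X.map (MulAut.conj g).toMonoidHom)) fun a b e => ?_
        exact Subtype.ext (Subtype.ext (congrArg Subtype.val e :))
      have := hd.trans h8
      norm_num at this
    have hyN : g * x * g⁻¹ ∈ N := hcN (hXq x hx)
    have hyC : g * x * g⁻¹ ∈ C := (hφ ⟨_, hyN⟩).mp (Subgroup.mem_bot.mp
      (hbot ▸ ⟨⟨_, hyN⟩, Subgroup.mem_subgroupOf.mpr ⟨x, hx, rfl⟩, rfl⟩))
    have hy : g * x * g⁻¹ ∈ QX := hQXeq ▸ ⟨hyC, hXq x hx⟩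
    refine mem_right_of_pow (A := Qs) (B := X) (C := QX) (n := 2) ⟨le_sup_left, le_sup_right, fun a ha c hc => ?_, ?_, rfl⟩
      (by rw [hQc]; decide) hy ?_
    · exact (Subgroup.mem_centralizer_iff.mp ((Subgroup.zpowers_le.mpr hqC) ha) c hc).symm
    · refine Subgroup.eq_bot_of_card_eq _ ?_
      have hi : Nat.card ↥(Qs ⊓ X) ∣ Nat.gcd 5 8 :=
        Nat.dvd_gcd (hQc ▸ Subgroup.card_dvd_of_le inf_le_left) (h.card ▸ Subgroup.card_dvd_of_le inf_le_right)
      exact Nat.dvd_one.mp hi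
    · rw [conj_pow, pow_two, h.sq hx, mul_one, mul_inv_cancel]
  refine ⟨q, hq, hqC, hcN, hnN, hc40, ?_⟩
  let ψ : ↥(Subgroup.normalizer (Qs : Set G)) →* SL32 := φ.comp (Subgroup.inclusion hnN)
  have hψ : ψ.range = ⊤ := by
    rw [eq_top_iff]
    intro y _
    obtain ⟨g, hg, hgn⟩ := hlift y
    exact ⟨⟨g, hgn⟩, hg⟩
  have h1 := Subgroup.card_mul_index ψ.ker
  rw [Subgroup.index_ker, hψ, Subgroup.card_top, card_SL32, hNQ] at h1
  have hk : Nat.card ↥ψ.ker = Nat.card ↥(C ⊓ Subgroup.normalizer (Qs : Set G) : Subgroup G) := Nat.card_congr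
    { toFun := fun x => ⟨x.1.1, ⟨(hφ _).mp x.2, x.1.2⟩⟩
      invFun := fun x => ⟨⟨x.1, x.2.2⟩, (hφ _).mpr x.2.1⟩
      left_inv := fun x => rfl
      right_inv := fun x => rfl }
  rw [hk, show (2 : ℕ) ^ 8 * 3 * 5 * 7 = 26880 by norm_num] at h1
  show Nat.card ↥(C ⊓ Subgroup.normalizer (Qs : Set G) : Subgroup G) = 160
  omega

theorem orbit_bound {p e q : G} (S : Setting z p) (F : AutFacts) (T : Setting e q) (he : e ∈ Q z) :
    Nat.card ↥(cz z) ≤ 4160 * Nat.card ↥(cz z ⊓ cz e : Subgroup G) := by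
  classical
  set st := cz z ⊓ cz e
  let g : ↥(cz z) ⧸ st.subgroupOf (cz z) → {f : ↥(Q z) // (f : G) * f = 1} :=
    Quotient.lift (fun h => ⟨⟨(h : G) * e * (h : G)⁻¹, isQ.normal (mem_cz.mp h.2) he⟩, by
        show (h : G) * e * (h : G)⁻¹ * ((h : G) * e * (h : G)⁻¹) = 1
        calc _ = (h : G) * (e * e) * (h : G)⁻¹ := by group
          _ = 1 := by rw [T.z_sq]; group⟩) (by
      intro a b hab
      have hab' : a⁻¹ * b ∈ st.subgroupOf (cz z) := QuotientGroup.leftRel_apply.mp hab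
      have hc : ((a : G)⁻¹ * b) * e * ((a : G)⁻¹ * b)⁻¹ = e :=
        mul_inv_eq_iff_eq_mul.mpr (mem_cz.mp (Subgroup.mem_subgroupOf.mp hab').2).eq
      refine Subtype.ext (Subtype.ext ?_)
      show (a : G) * e * (a : G)⁻¹ = (b : G) * e * (b : G)⁻¹
      conv_lhs => rw [← hc]
      group)
  have hg : Function.Injective g := by
    intro a b
    induction a using QuotientGroup.induction_on with
    | H a =>
      induction b using QuotientGroup.induction_on with
      | H b =>
        intro h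
        have h' : (a : G) * e * (a : G)⁻¹ = (b : G) * e * (b : G)⁻¹ :=
          congrArg (fun y : {f : ↥(Q z) // (f : G) * f = 1} => ((y.1 : ↥(Q z)) : G)) h
        rw [QuotientGroup.eq, Subgroup.mem_subgroupOf]
        refine ⟨(a⁻¹ * b).2, mem_cz.mpr (mul_inv_eq_iff_eq_mul.mp ?_)⟩
        calc ((a⁻¹ * b : ↥(cz z)) : G) * e * ((a⁻¹ * b : ↥(cz z)) : G)⁻¹
            = (a : G)⁻¹ * ((b : G) * e * (b : G)⁻¹) * a := by
              simp only [Subgroup.coe_mul, Subgroup.coe_inv]; group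
          _ = e := by rw [← h']; group
  have hN := ESCount.sq_count S.es
  rw [S.card_E] at hN
  have hNle : Nat.card {f : ↥(Q z) // (f : G) * f = 1} ≤ 4160 := by
    by_contra hlt
    push Not at hlt
    push_cast at hN
    have h129 : (130 : ℤ) ≤ 2 * (Nat.card {f : ↥(Q z) // (f : G) * f = 1} : ℤ) - 2 ^ 13 := by
      have : (4161 : ℤ) ≤ (Nat.card {f : ↥(Q z) // (f : G) * f = 1} : ℤ) := by exact_mod_cast hlt
      norm_num
      linarith
    nlinarith
  have hidx := Subgroup.card_mul_index (st.subgroupOf (cz z))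
  rw [Nat.card_congr (Subgroup.subgroupOfEquivOfLe (inf_le_left : st ≤ cz z)).toEquiv] at hidx
  rw [← hidx, mul_comm]
  exact Nat.mul_le_mul_right _ ((Nat.card_le_card_of_injective g hg).trans hNle)

theorem IsLam.card_centralizer (h : IsLam X) (F : AutFacts) (R : Rows z) (hz : z ∈ X) (hz1 : z ≠ 1) :
    Nat.card ↥(Subgroup.centralizer (X : Set G)) = 2 ^ 15 * 120 := by
  classical
  haveI := Fact.mk Nat.prime_five
  obtain ⟨q, D⟩ := h.exists_five F R hz hz1
  obtain ⟨p, S, hS⟩ := h.base z hz hz1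
  obtain ⟨b, hb, hb1, hbz⟩ := h.exists_other z
  obtain ⟨r, T, hT⟩ := h.base b hb hb1
  obtain ⟨c, hc, hc1, hcz', hcb, hczb⟩ := h.exists_third z b
  set C := Subgroup.centralizer (X : Set G) with hC
  set st := cz z ⊓ cz b
  have hCst : C ≤ st := fun g hg => ⟨mem_cz.mpr (Subgroup.mem_centralizer_iff.mp hg z hz).symm,
    mem_cz.mpr (Subgroup.mem_centralizer_iff.mp hg b hb).symm⟩
  obtain ⟨k, hkdvd, hk⟩ := S.card_stab F T (hS hb) hbz
  have hdvd : Nat.card ↥C ∣ 2 ^ 12 * 3840 :=
    (Subgroup.card_dvd_of_le hCst).trans (hk ▸ Nat.mul_dvd_mul_left _ hkdvd)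
  -- the orbit of `c` has at most four points
  have hidx : (C.subgroupOf st).index ≤ 4 := by
    have hmove : ∀ g : ↥st, (g : G) * c * (g : G)⁻¹ ∈ X ∧
        (g : G) * c * (g : G)⁻¹ ∉ ({1, z, b, z * b} : Set G) := by
      intro g
      have gz : (g : G) * z * (g : G)⁻¹ = z := mul_inv_eq_iff_eq_mul.mpr (mem_cz.mp g.2.1).eq
      have gb : (g : G) * b * (g : G)⁻¹ = b := mul_inv_eq_iff_eq_mul.mpr (mem_cz.mp g.2.2).eq
      have inj : ∀ {x : G}, (g : G) * c * (g : G)⁻¹ = g * x * (g : G)⁻¹ → c = x := fun e =>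
        mul_left_cancel (mul_right_cancel e)
      constructor
      · have hgz := h.adj z hz hz1 b hb hb1 hbz p S
        have hg' : (g : G) ∈ Subgroup.normalizer (line z p b : Set G) := by
          refine IsLam.mem_normalizer_of_forall fun x hx => ?_
          have := h.adj z hz hz1 b hb hb1 hbz _ (gz ▸ S.conj (g : G))
          rw [hgz]
          rw [← this, line]
          rw [line] at hx
          have hm := Subgroup.mem_map_of_mem (MulAut.conj (g : G)).toMonoidHom hx
          rw [MonoidHom.map_closure] at hm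
          refine Subgroup.closure_mono ?_ hm
          rintro _ ⟨w, (rfl | rfl | rfl), rfl⟩
          · exact Or.inl gz
          · exact Or.inr (Or.inl gb)
          · refine Or.inr (Or.inr ?_)
            show (g : G) * (p * b * p⁻¹) * (g : G)⁻¹ = _
            conv_rhs => rw [← gb]
            group
        rw [hgz] at hg'
        exact (Subgroup.mem_normalizer_iff.mp hg' c).mp hc
      · simp only [Set.mem_insert_iff, Set.mem_singleton_iff, not_or]
        refine ⟨fun e => hc1 (conj_eq_one_iff.mp e), fun e => hcz' (inj (e.trans gz.symm)),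
          fun e => hcb (inj (e.trans gb.symm)), fun e => hczb (inj (e.trans ?_))⟩
        rw [show (g : G) * (z * b) * (g : G)⁻¹ = g * z * (g : G)⁻¹ * (g * b * (g : G)⁻¹) by group, gz, gb]
    let ev : ↥st ⧸ C.subgroupOf st → ({x | x ∈ X ∧ x ∉ ({1, z, b, z * b} : Set G)} : Set G) :=
      Quotient.lift (fun g => ⟨_, hmove g⟩) (fun g g' hgg => Subtype.ext <| by
        have hm : g⁻¹ * g' ∈ C.subgroupOf st := QuotientGroup.leftRel_apply.mp hgg
        have hm' : Commute ((g : G)⁻¹ * g') c := (Subgroup.mem_centralizer_iff.mp hm c hc).symm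
        show (g : G) * c * (g : G)⁻¹ = g' * c * (g' : G)⁻¹
        rw [show (g' : G) * c * (g' : G)⁻¹ = g * ((g : G)⁻¹ * g' * c * ((g : G)⁻¹ * g')⁻¹) * (g : G)⁻¹ by group,
          mul_inv_eq_iff_eq_mul.mpr hm'.eq])
    have hinj : Function.Injective ev := by
      intro a a'
      induction a using QuotientGroup.induction_on with
      | H g =>
        induction a' using QuotientGroup.induction_on with
        | H g' =>
          intro e
          have e' : (g : G) * c * (g : G)⁻¹ = g' * c * (g' : G)⁻¹ := congrArg Subtype.val e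
          rw [QuotientGroup.eq, Subgroup.mem_subgroupOf]
          have hgz : Commute ((g⁻¹ * g' : ↥st) : G) z := mem_cz.mp (g⁻¹ * g').2.1
          have hgb : Commute ((g⁻¹ * g' : ↥st) : G) b := mem_cz.mp (g⁻¹ * g').2.2
          refine h.mem_centralizer_of_basis hz hz1 hb hb1 hbz hc (by simp [hc1, hcz', hcb, hczb]) hgz hgb ?_
          refine mul_inv_eq_iff_eq_mul.mp ?_
          rw [Subgroup.coe_mul, Subgroup.coe_inv,
            show (g : G)⁻¹ * g' * c * ((g : G)⁻¹ * g')⁻¹ = (g : G)⁻¹ * (g' * c * (g' : G)⁻¹) * g by group, ← e']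
          group
    refine (Nat.card_le_card_of_injective ev hinj).trans ?_
    rw [Nat.card_coe_set_eq]
    have hsub : {x | x ∈ X ∧ x ∉ ({1, z, b, z * b} : Set G)} ⊆
        (fun y => c * y) '' ({1, z, b, z * b} : Set G) := fun x hx => by
      rcases h.eight hz hz1 hb hb1 hbz hc (by simp [hc1, hcz', hcb, hczb]) hx.1 with hw | hw
      · exact absurd hw hx.2
      · exact ⟨c * x, hw, by simp only [← mul_assoc, h.sq hc, one_mul]⟩
    refine (Set.ncard_le_ncard hsub (Set.toFinite _)).trans ((Set.ncard_image_le (Set.toFinite _)).trans ?_)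
    refine (Set.ncard_insert_le _ _).trans (Nat.succ_le_succ ?_)
    refine (Set.ncard_insert_le _ _).trans (Nat.succ_le_succ ?_)
    exact (Set.ncard_insert_le _ _).trans (by rw [Set.ncard_singleton])
  have hlow : Nat.card ↥st ≤ Nat.card ↥C * 4 := by
    have := Subgroup.card_mul_index (C.subgroupOf st)
    rw [Nat.card_congr (Subgroup.subgroupOfEquivOfLe hCst).toEquiv] at this
    rw [← this]
    exact Nat.mul_le_mul_left _ hidx
  have horb := orbit_bound S F T (hS hb)
  rw [S.card_cz F] at horb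
  have hL : 2 ^ 15 ∣ Nat.card ↥C := by
    rw [← h.card_pairSub F hz hz1 hb hb1 hbz]
    exact Subgroup.card_dvd_of_le (sup_le inf_le_right inf_le_right)
  -- Sylow's theorem in the centraliser
  have hqo : orderOf (⟨q, D.mem⟩ : ↥C) = 5 := (Subgroup.orderOf_mk q D.mem).trans D.order
  have hf : (Nat.card ↥C).factorization 5 = 1 := by
    have h1 := Nat.prime_five.factorization_pos_of_dvd Nat.card_pos.ne' (hqo ▸ orderOf_dvd_natCard _)
    have h2 : ¬ 2 ≤ (Nat.card ↥C).factorization 5 := fun h2 => by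
      have := ((Nat.prime_five.pow_dvd_iff_le_factorization Nat.card_pos.ne').mpr h2).trans hdvd
      norm_num at this
    omega
  let P : Sylow 5 ↥C := Sylow.ofCard (Subgroup.zpowers (⟨q, D.mem⟩ : ↥C))
    (by rw [hf, pow_one, Nat.card_zpowers, hqo])
  have hP : Nat.card ↥(Subgroup.normalizer ((P : Subgroup ↥C) : Set ↥C)) = 160 := by
    rw [← D.card_norm, show (P : Subgroup ↥C) = Subgroup.zpowers (⟨q, D.mem⟩ : ↥C) from rfl]
    have hmem : ∀ x : ↥C, x ∈ Subgroup.normalizer (Subgroup.zpowers (⟨q, D.mem⟩ : ↥C) : Set ↥C) ↔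
        (x : G) ∈ Subgroup.normalizer (Subgroup.zpowers q : Set G) := by
      intro x
      constructor
      · intro hx
        refine mem_normalizer_zpowers D.order ?_
        obtain ⟨i, hi⟩ := (Subgroup.mem_normalizer_iff.mp hx _).mp (Subgroup.mem_zpowers _)
        exact ⟨i, congrArg Subtype.val hi⟩
      · intro hx
        refine mem_normalizer_zpowers hqo ?_
        obtain ⟨i, hi⟩ := (Subgroup.mem_normalizer_iff.mp hx _).mp (Subgroup.mem_zpowers q)
        exact ⟨i, Subtype.ext hi⟩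
    exact Nat.card_congr
      { toFun := fun x => ⟨x.1.1, x.1.2, (hmem _).mp x.2⟩
        invFun := fun x => ⟨⟨x.1, x.2.1⟩, (hmem _).mpr x.2.2⟩
        left_inv := fun x => rfl
        right_inv := fun x => rfl }
  have hn5 := card_sylow_modEq_one 5 ↥C
  rw [Sylow.card_eq_index_normalizer P] at hn5
  have hPm := Subgroup.card_mul_index (Subgroup.normalizer ((P : Subgroup ↥C) : Set ↥C))
  rw [hP] at hPm
  obtain ⟨m, hm⟩ := hL
  have hm480 : m ∣ 480 := by
    rw [hm, show 2 ^ 12 * 3840 = 2 ^ 15 * 480 by norm_num] at hdvd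
    exact Nat.dvd_of_mul_dvd_mul_left (by norm_num) hdvd
  rw [hm, hk] at hlow
  rw [hk] at horb
  have hm1 : 40 ≤ m := by omega
  have hm2 : m ≤ 120 := by
    have := h.card_centralizer_le F
    rw [← hC, hm] at this
    exact Nat.le_of_mul_le_mul_left this (by norm_num)
  unfold Nat.ModEq at hn5
  replace hn5 : (Subgroup.normalizer ((P : Subgroup ↥C) : Set ↥C)).index % 5 = 1 % 5 := hn5
  generalize (Subgroup.normalizer ((P : Subgroup ↥C) : Set ↥C)).index = n at *
  rw [hm] at hPm ⊢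
  interval_cases m <;> omega

end Cfsg.Agent.Lib.J4Line
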