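import Cfsg.Agent.Lib.J4Local.AutTwo

/-!
# A fact on involutions of the Sylow 2-subgroup of M22

If `a = [c,u]` and `b = [c,d]` are nontrivial and distinct and `a` commutes with `d`, `b` with `u`, for
involutions `c, u, d` in a common 2-subgroup of M22, then `u` commutes with `d`.
-/

set_option autoImplicit false
set_option maxRecDepth 4000
set_option linter.style.haveILetI false

namespace Cfsg.Agent.Lib.J4Line.TwoFact

open Cfsg Cfsg.Agent.Lib.Computation
open Cfsg.Agent.Lib.J4Local
open Cfsg.Agent.Lib.J4Local.AutSylow Cfsg.Agent.Lib.J4Local.AutTwo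
open Cfsg.Agent.Lib.J4Local.SylTable

/-- The inner involutions of the Sylow subgroup, with their rows and centraliser masks. -/
def invs : List (ℕ × ℕ × ℕ) :=
  (ents SylData.rows SylData.cents).filter fun t =>
    Nat.beq (getW 8 t.2.1 t.1) 0 && Nat.beq (getW 5 (SylData.els.getD t.1 0) 23) 23

/-- For a fixed `c`, the pairs of `u` and `(c u)²`. -/
def withC (c : ℕ) : List ((ℕ × ℕ × ℕ) × ℕ) :=
  invs.map fun t => (t, forceNat (getW 8 t.2.1 c) fun x => getW 8 (SylData.rows.getD x 0) x)

/-- The check on one pair. -/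
def okPair (s t : (ℕ × ℕ × ℕ) × ℕ) : Bool :=
  Nat.beq t.2 0 || Nat.beq s.2 t.2 || offBit t.1.2.2 s.2 || offBit s.1.2.2 t.2 || !offBit s.1.2.2 t.1.1

/-- The whole check. -/
def check : Bool :=
  invs.all fun c => forceNat c.1 fun i => (fun l => l.all fun s => Nat.beq s.2 0 || l.all (okPair s)) (withC i)

theorem check_eq : check = true := by decide +kernel

theorem commute_of_syl {c u d : AutM22} (hc : c ∈ syl) (hu : u ∈ syl) (hd : d ∈ syl)
    (ic : c ∈ inn) (iu : u ∈ inn) (id : d ∈ inn) (c2 : c * c = 1) (u2 : u * u = 1) (d2 : d * d = 1)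
    (ha : c * u * (c * u) ≠ 1) (hb : c * d * (c * d) ≠ 1) (hab : c * u * (c * u) ≠ c * d * (c * d))
    (had : Commute (c * u * (c * u)) d) (hbu : Commute (c * d * (c * d)) u) : Commute u d := by
  obtain ⟨i, hi, rfl⟩ := mem_syl.mp hc
  obtain ⟨j, hj, rfl⟩ := mem_syl.mp hu
  obtain ⟨k, hk, rfl⟩ := mem_syl.mp hd
  have hmem : ∀ {n : ℕ}, n < 256 → val n ∈ inn → val n * val n = 1 →
      (n, SylData.rows.getD n 0, SylData.cents.getD n 0) ∈ invs := by
    intro n hn hin h2
    refine List.mem_filter.mpr ⟨model.ent hn, ?_⟩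
    simp only [Bool.and_eq_true, Nat.beq_eq]
    refine ⟨model.inj _ (getW8_lt _ _) 0 (Nat.succ_pos 255) ?_, (aut_mem_inn (els_spec hn).1).mp hin⟩
    rw [(model.row n hn n hn).2, h2, val_zero]
  have h := check_eq
  simp only [check, withC, List.all_eq_true, forceNat_eq, List.mem_map, Bool.or_eq_true, Nat.beq_eq,
    forall_exists_index, and_imp, forall_apply_eq_imp_iff₂] at h
  have hh := h _ (hmem hi ic c2) _ (hmem hj iu u2)
  have hsq : ∀ {n : ℕ}, n < 256 →
      val (getW 8 (SylData.rows.getD (getW 8 (SylData.rows.getD n 0) i) 0) (getW 8 (SylData.rows.getD n 0) i)) =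
        val i * val n * (val i * val n) := fun {n} hn => by
    rw [(model.row _ (getW8_lt _ _) _ (getW8_lt _ _)).2, (model.row i hi n hn).2]
  rcases hh with hh | hh
  · exact absurd (by rw [← hsq hj, hh, val_zero]) ha
  have hp := hh _ (hmem hk id d2)
  simp only [okPair, Bool.or_eq_true, Nat.beq_eq, Bool.not_eq_true', offBit_iff] at hp
  have hcomm : ∀ {n m : ℕ}, n < 256 → m < 256 → ((SylData.cents.getD n 0).testBit m = true ↔ Commute (val n) (val m)) :=
    fun hn hm => (model.cent_iff hn).trans ⟨fun e => e.2, fun e => ⟨hm, e⟩⟩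
  rcases hp with (((hp | hp) | hp) | hp) | hp
  · exact absurd (by rw [← hsq hk, hp, val_zero]) hb
  · exact absurd (by rw [← hsq hj, ← hsq hk, hp]) hab
  · rw [← Bool.not_eq_true, hcomm hk (getW8_lt _ _), hsq hj] at hp
    exact absurd had.symm hp
  · rw [← Bool.not_eq_true, hcomm hj (getW8_lt _ _), hsq hk] at hp
    exact absurd hbu.symm hp
  · have : (SylData.cents.getD j 0).testBit k = true := by
      by_contra hne
      rw [Bool.not_eq_true] at hne
      rw [← offBit_iff] at hne
      rw [hne] at hp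
      exact Bool.noConfusion hp
    exact (hcomm hj hk).mp this

/-- The fact for any 2-subgroup. -/
theorem commute_of_two {P : Subgroup AutM22} (hP : IsPGroup 2 ↥P) (hn : inn.Normal) {c u d : AutM22}
    (hc : c ∈ P) (hu : u ∈ P) (hd : d ∈ P) (ic : c ∈ inn) (iu : u ∈ inn) (id : d ∈ inn) (c2 : c * c = 1)
    (u2 : u * u = 1) (d2 : d * d = 1) (ha : c * u * (c * u) ≠ 1) (hb : c * d * (c * d) ≠ 1)
    (hab : c * u * (c * u) ≠ c * d * (c * d)) (had : Commute (c * u * (c * u)) d)
    (hbu : Commute (c * d * (c * d)) u) : Commute u d := by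
  haveI : Fact (Nat.Prime 2) := ⟨Nat.prime_two⟩
  obtain ⟨k, hk⟩ := hP.exists_card_eq
  obtain ⟨g, hg⟩ := exists_conj_le hk
  set f := (MulAut.conj g).toMonoidHom
  have hf : Function.Injective f := (MulAut.conj g).injective
  have mem : ∀ {x}, x ∈ P → f x ∈ syl := fun hx => hg ⟨_, hx, rfl⟩
  have memi : ∀ {x}, x ∈ inn → f x ∈ inn := fun hx => hn.conj_mem _ hx g
  have h := commute_of_syl (mem hc) (mem hu) (mem hd) (memi ic) (memi iu) (memi id)
    (by rw [← map_mul, c2, map_one]) (by rw [← map_mul, u2, map_one]) (by rw [← map_mul, d2, map_one])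
    (by rw [← map_mul, ← map_mul]; exact fun e => ha (hf (e.trans (map_one f).symm)))
    (by rw [← map_mul, ← map_mul]; exact fun e => hb (hf (e.trans (map_one f).symm)))
    (by rw [← map_mul, ← map_mul, ← map_mul, ← map_mul]; exact fun e => hab (hf e))
    (by rw [← map_mul, ← map_mul]; exact had.map f)
    (by rw [← map_mul, ← map_mul]; exact hbu.map f)
  exact hf (by rw [map_mul, map_mul]; exact h.eq)

end Cfsg.Agent.Lib.J4Line.TwoFact
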