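import Cfsg.Agent.Lib.J4Line.Main
import Cfsg.Agent.Lib.J4Line.TwoFact
import Cfsg.Agent.Lib.J4Local.RowsC

/-!
# Involutions centralising an element of order three that induce transvections on a line
-/

set_option autoImplicit false
set_option linter.unusedSectionVars false
set_option linter.unusedVariables false
set_option linter.style.haveILetI false

namespace Cfsg.Agent.Lib.J4Line

open Cfsg.Agent.Lib.J4Local Cfsg.Agent.Lib.LargeExtraspecial.Basic
open scoped Pointwise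

variable {G : Type*} [Group G] [Finite G] {X : Subgroup G} {z p : G} {a b c s : G}

/-- An involution of `E_a` commuting with `s` and `b` that maps `c` to `c a`. -/
structure IsLift (X : Subgroup G) (s a b c u : G) : Prop where
  core : u ∈ Q a
  fix : Commute u b
  comm : Commute u s
  sq : u * u = 1
  moves : u * c * u⁻¹ = c * a

theorem IsLam.exists_lift (h : IsLam X) (F : AutFacts) (hs : s ∈ Subgroup.centralizer (X : Set G))
    (hs3 : orderOf s = 3) (ha : a ∈ X) (h1 : a ≠ 1) (hb : b ∈ X) (hb1 : b ≠ 1) (hba : b ≠ a)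
    (hc : c ∈ X) (hc' : c ∉ ({1, a, b, a * b} : Set G)) : ∃ u, IsLift X s a b c u := by
  classical
  haveI := Fact.mk Nat.prime_three
  obtain ⟨q, S, hS⟩ := h.base a ha h1
  obtain ⟨r, T, hT⟩ := h.base b hb hb1
  set T₀ : Set G := {f | f ∈ cQ a b ∧ f * c * f⁻¹ = c * a}
  have hsa : s * a * s⁻¹ = a := mul_inv_eq_iff_eq_mul.mpr (Subgroup.mem_centralizer_iff.mp hs a ha).symm
  have hsb : s * b * s⁻¹ = b := mul_inv_eq_iff_eq_mul.mpr (Subgroup.mem_centralizer_iff.mp hs b hb).symm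
  have hsc : s * c * s⁻¹ = c := mul_inv_eq_iff_eq_mul.mpr (Subgroup.mem_centralizer_iff.mp hs c hc).symm
  have hconj : ∀ f ∈ T₀, s * f * s⁻¹ ∈ T₀ := by
    rintro f ⟨hf, hfc⟩
    obtain ⟨hfa, hfb⟩ := mem_cQ.mp hf
    refine ⟨mem_cQ.mpr ⟨isQ.normal (Subgroup.mem_centralizer_iff.mp hs a ha).symm hfa, ?_⟩, ?_⟩
    · have := hfb.map (MulAut.conj s)
      simpa only [MulAut.conj_apply, hsb] using this
    · rw [show s * f * s⁻¹ * c * (s * f * s⁻¹)⁻¹ = s * (f * (s⁻¹ * c * s) * f⁻¹) * s⁻¹ by group,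
        show s⁻¹ * c * s = c by
          rw [mul_assoc, Subgroup.mem_centralizer_iff.mp hs c hc, inv_mul_cancel_left],
        hfc, show s * (c * a) * s⁻¹ = s * c * s⁻¹ * (s * a * s⁻¹) by group, hsc, hsa]
  -- the set has `2^11` elements
  have hY : ∀ f ∈ cQ a b, f * c * f⁻¹ = c → f ∈ ySub X a := fun f hf hfc =>
    ⟨(mem_cQ.mp hf).1, h.mem_centralizer_of_basis ha h1 hb hb1 hba hc hc'
      (isQ.commute (mem_cQ.mp hf).1) (mem_cQ.mp hf).2 (mul_inv_eq_iff_eq_mul.mp hfc)⟩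
  have heq : (cQ a b : Set G) \ (ySub X a : Set G) = T₀ := by
    ext f
    constructor
    · rintro ⟨hf, hf'⟩
      exact ⟨hf, (h.cQ_conj ha h1 (mem_cQ.mp hf).1 hc).resolve_left fun e => hf' (hY f hf e)⟩
    · rintro ⟨hf, hfc⟩
      refine ⟨hf, fun hf' => ?_⟩
      rw [mul_inv_eq_iff_eq_mul.mpr (Subgroup.mem_centralizer_iff.mp hf'.2 c hc).symm] at hfc
      exact h1 (mul_eq_left.mp hfc.symm)
  have hcard : T₀.ncard = 2 ^ 11 := by
    rw [← heq, Set.ncard_sdiff (fun f hf => mem_cQ.mpr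
      ⟨(mem_ySub.mp hf).1, ((mem_ySub.mp hf).2 b hb).symm⟩) (Set.toFinite _)]
    show (cQ a b : Set G).ncard - (ySub X a : Set G).ncard = 2 ^ 11
    rw [← Nat.card_coe_set_eq, ← Nat.card_coe_set_eq, SetLike.coe_sort_coe, SetLike.coe_sort_coe,
      h.card_ySub F ha h1, S.card_cQ_self T (hS hb) hba]
    norm_num
  haveI : Fintype T₀ := Fintype.ofFinite _
  have hs2 : s ^ 3 = 1 := hs3 ▸ pow_orderOf_eq_one s
  have hinv : s⁻¹ = s * s := inv_eq_of_mul_eq_one_right (by rw [← mul_assoc, ← pow_three']; exact hs2)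
  let σ : Equiv.Perm T₀ :=
    { toFun := fun f => ⟨_, hconj f f.2⟩
      invFun := fun f => ⟨_, hconj _ (hconj f f.2)⟩
      left_inv := fun f => Subtype.ext (by
        show s * (s * (s * (f : G) * s⁻¹) * s⁻¹) * s⁻¹ = f
        rw [show s * (s * (s * (f : G) * s⁻¹) * s⁻¹) * s⁻¹ = s ^ 3 * f * (s ^ 3)⁻¹ by
          rw [pow_three]; group, hs2]; simp)
      right_inv := fun f => Subtype.ext (by
        show s * (s * (s * (f : G) * s⁻¹) * s⁻¹) * s⁻¹ = f
        rw [show s * (s * (s * (f : G) * s⁻¹) * s⁻¹) * s⁻¹ = s ^ 3 * f * (s ^ 3)⁻¹ by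
          rw [pow_three]; group, hs2]; simp) }
  have hσ : σ ^ 3 ^ 1 = 1 := Equiv.ext fun f => Subtype.ext (by
    show s * (s * (s * (f : G) * s⁻¹) * s⁻¹) * s⁻¹ = f
    rw [show s * (s * (s * (f : G) * s⁻¹) * s⁻¹) * s⁻¹ = s ^ 3 * f * (s ^ 3)⁻¹ by
      rw [pow_three]; group, hs2]; simp)
  obtain ⟨⟨f, hf, hfc⟩, hfix⟩ := Equiv.Perm.exists_fixed_point_of_prime
    (by rw [← Nat.card_eq_fintype_card, Nat.card_coe_set_eq, hcard]; norm_num) hσ
  have hfs : Commute f s := (mul_inv_eq_iff_eq_mul.mp (congrArg Subtype.val hfix : s * f * s⁻¹ = f)).symm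
  obtain ⟨hfa, hfb⟩ := mem_cQ.mp hf
  rcases S.es.sq_cases hfa with e | e
  · exact ⟨f, hfa, hfb, hfs, e, hfc⟩
  · refine ⟨f * c, mul_mem hfa (hS hc), hfb.mul_left (h.comm hc hb),
      hfs.mul_left (Subgroup.mem_centralizer_iff.mp hs c hc), ?_, ?_⟩
    · have hfc' : f * c = c * a * f := mul_inv_eq_iff_eq_mul.mp hfc
      calc f * c * (f * c) = c * a * (f * (f * c)) := by rw [hfc']; group
        _ = c * a * (a * c) := by rw [← mul_assoc f f c, e]
        _ = 1 := by rw [mul_assoc c a, ← mul_assoc a a c, h.sq ha, one_mul, h.sq hc]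
    · rw [show f * c * c * (f * c)⁻¹ = f * (c * c) * c⁻¹ * f⁻¹ by group, h.sq hc, mul_one,
        inv_eq_of_mul_eq_one_right (h.sq hc), hfc]

namespace IsLift

variable {u : G}

theorem mem_normalizer (hu : IsLift X s a b c u) (h : IsLam X) (ha : a ∈ X) (h1 : a ≠ 1) :
    u ∈ Subgroup.normalizer (X : Set G) := IsLam.mem_normalizer_of_forall fun x hx => by
  rcases h.cQ_conj ha h1 hu.core hx with e | e <;> rw [e]
  exacts [hx, mul_mem hx ha]

theorem fix_self (hu : IsLift X s a b c u) : u * a * u⁻¹ = a :=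
  mul_inv_eq_iff_eq_mul.mpr (isQ.commute hu.core).eq

theorem fix_other (hu : IsLift X s a b c u) : u * b * u⁻¹ = b :=
  mul_inv_eq_iff_eq_mul.mpr hu.fix.eq

theorem inv (hu : IsLift X s a b c u) : u⁻¹ = u := inv_eq_of_mul_eq_one_right hu.sq

end IsLift

/-- A setting at the element of order three. -/
theorem exists_setting_three [IsSimpleGroup G] (hG : ¬ IsMulCommutative G) (S : Setting z p)
    (F : AutFacts) (hs3 : orderOf s = 3) :
    ∃ z', Setting z' s ∧ ∀ x, Commute x s → x ∈ kSub z' s := by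
  obtain ⟨g, hg⟩ := isConj_iff.mp (S.three_conj hG F hs3)
  have S' := S.conj g
  rw [hg] at S'
  exact ⟨_, S', fun x hx => mem_kSub.mpr ⟨S'.centralizer_p_le hG F hx, hx⟩⟩

variable {z' : G}

theorem IsLam.ne_center (h : IsLam X) (F : AutFacts) (S' : Setting z' s)
    (hk : ∀ x, Commute x s → x ∈ kSub z' s) (hs : s ∈ Subgroup.centralizer (X : Set G))
    (hs3 : orderOf s = 3) {x : G} (hx : x ∈ X) : x ≠ z' := by
  intro e
  have hx1 : x ≠ 1 := e ▸ S'.z_ne_one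
  obtain ⟨b, hb, hb1, hbx⟩ := h.exists_other x
  obtain ⟨c, hc, hc1, hcx, hcb, hcxb⟩ := h.exists_third x b
  have hx' : x ∉ ({1, b, c, b * c} : Set G) := by
    simp only [Set.mem_insert_iff, Set.mem_singleton_iff, not_or]
    refine ⟨hx1, Ne.symm hbx, Ne.symm hcx, fun e' => hcxb ?_⟩
    rw [e', (h.comm hb hc).eq, mul_assoc, h.sq hb, mul_one]
  obtain ⟨u, hu⟩ := h.exists_lift F hs hs3 hb hb1 hc hc1 hcb hx hx'
  have hfix : u * x * u⁻¹ = x := by
    rw [e]
    exact mul_inv_eq_iff_eq_mul.mpr (mem_kSub.mp (hk u hu.comm)).1.eq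
  rw [hu.moves] at hfix
  exact hb1 (mul_eq_left.mp hfix)

/-- The lifts with centres `a, b` and common axis commute. -/
theorem IsLam.lifts_commute (h : IsLam X) (F : AutFacts) (S' : Setting z' s)
    (hk : ∀ x, Commute x s → x ∈ kSub z' s) (hs : s ∈ Subgroup.centralizer (X : Set G))
    (hs3 : orderOf s = 3) (ha : a ∈ X) (h1 : a ≠ 1) (hb : b ∈ X) (hb1 : b ≠ 1) (hba : b ≠ a)
    (hc : c ∈ X) {u d : G} (hu : IsLift X s a b c u) (hd : IsLift X s b a c d) : Commute u d := by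
  haveI : Fact (Nat.Prime 2) := ⟨Nat.prime_two⟩
  obtain ⟨qa, Sa, hSa⟩ := h.base a ha h1
  obtain ⟨qb, Sb, hSb⟩ := h.base b hb hb1
  set P2 := (cQ a b ⊔ cQ b a) ⊓ cz s
  have hst : ∀ x ∈ cQ a b, x ∈ Subgroup.normalizer (cQ b a : Set G) := by
    intro x hx
    obtain ⟨hxa, hxb⟩ := mem_cQ.mp hx
    have hxa' : x * a * x⁻¹ = a := mul_inv_eq_iff_eq_mul.mpr (isQ.commute hxa).eq
    refine IsLam.mem_normalizer_of_forall fun y hy => ?_
    obtain ⟨hyb, hya⟩ := mem_cQ.mp hy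
    refine mem_cQ.mpr ⟨isQ.normal hxb hyb, ?_⟩
    have := hya.map (MulAut.conj x)
    simpa only [MulAut.conj_apply, hxa'] using this
  have h2 : IsPGroup 2 ↥(cQ a b ⊔ cQ b a : Subgroup G) := by
    have hm := OffenderComp.Aux.card_sup_inf (H := cQ a b) (K := cQ b a) (fun x hx => hst x hx)
    rw [Sa.card_cQ_self Sb (hSa hb) hba, Sb.card_cQ_self Sa (hSb ha) (Ne.symm hba)] at hm
    obtain ⟨k, -, hk⟩ := (Nat.dvd_prime_pow Nat.prime_two).mp
      (Dvd.intro _ (hm.trans (by norm_num)) : Nat.card ↥(cQ a b ⊔ cQ b a : Subgroup G) ∣ 2 ^ 24)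
    exact IsPGroup.of_card hk
  have hP2 : IsPGroup 2 ↥P2 := h2.to_le inf_le_left
  have hle : P2 ≤ cz z' := fun x hx => mem_cz.mpr (mem_kSub.mp (hk x (mem_cz.mp hx.2))).1
  let m : ↥P2 →* AutM22 := S'.phi.comp (Subgroup.inclusion hle)
  have hm : IsPGroup 2 ↥m.range := hP2.of_surjective m.rangeRestrict m.rangeRestrict_surjective
  have hmr : ∀ {x}, x ∈ P2 → S'.img x ∈ m.range := fun {x} hx => ⟨⟨x, hx⟩, (S'.img_of_mem (hle hx)).symm⟩
  have hcs : Commute c s := Subgroup.mem_centralizer_iff.mp hs c hc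
  have cP : c ∈ P2 := ⟨Subgroup.mem_sup_left (mem_cQ.mpr ⟨hSa hc, h.comm hc hb⟩), mem_cz.mpr hcs⟩
  have uP : u ∈ P2 := ⟨Subgroup.mem_sup_left (mem_cQ.mpr ⟨hu.core, hu.fix⟩), mem_cz.mpr hu.comm⟩
  have dP : d ∈ P2 := ⟨Subgroup.mem_sup_right (mem_cQ.mpr ⟨hd.core, hd.fix⟩), mem_cz.mpr hd.comm⟩
  have himg : ∀ {x}, x ∈ P2 → S'.img x ∈ inn := fun {x} hx => (S'.img_mem_inn F (hle hx)).mpr
    (S'.kSub_le_inner (hk x (mem_cz.mp hx.2)))
  have hone : ∀ {x}, x ∈ P2 → x * x = 1 → S'.img x * S'.img x = 1 := fun {x} hx e => by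
    rw [← S'.img_mul (hle hx) (hle hx), e, S'.img_Q (one_mem _)]
  -- what the kernel meets
  have hker : ∀ {x}, x ∈ P2 → S'.img x = 1 → x = 1 ∨ x = z' := by
    intro x hx hx1
    obtain ⟨k, hk2⟩ := hP2 ⟨x, hx⟩
    have hk2' : x ^ 2 ^ k = 1 := congrArg Subtype.val hk2
    exact S'.fix x (S'.mem_Q_of_img_one (hle hx) hx1 hk2') (mem_cz.mp hx.2)
  have ea : c * u * (c * u) = a := by
    calc c * u * (c * u) = c * (u * c * u⁻¹) := by rw [hu.inv]; group
      _ = a := by rw [hu.moves, ← mul_assoc, h.sq hc, one_mul]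
  have eb : c * d * (c * d) = b := by
    calc c * d * (c * d) = c * (d * c * d⁻¹) := by rw [hd.inv]; group
      _ = b := by rw [hd.moves, ← mul_assoc, h.sq hc, one_mul]
  have aP : a ∈ P2 := ea ▸ mul_mem (mul_mem cP uP) (mul_mem cP uP)
  have bP : b ∈ P2 := eb ▸ mul_mem (mul_mem cP dP) (mul_mem cP dP)
  have ia : S'.img a = S'.img c * S'.img u * (S'.img c * S'.img u) := by
    rw [← ea, S'.img_mul (hle (mul_mem cP uP)) (hle (mul_mem cP uP)), S'.img_mul (hle cP) (hle uP)]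
  have ib : S'.img b = S'.img c * S'.img d * (S'.img c * S'.img d) := by
    rw [← eb, S'.img_mul (hle (mul_mem cP dP)) (hle (mul_mem cP dP)), S'.img_mul (hle cP) (hle dP)]
  have hne : ∀ {x}, x ∈ X → x ≠ 1 → x ∈ P2 → S'.img x ≠ 1 := fun hx hx1 hxP e =>
    (hker hxP e).elim hx1 (h.ne_center F S' hk hs hs3 hx)
  have cimg : ∀ {x y}, x ∈ P2 → y ∈ P2 → Commute x y → Commute (S'.img x) (S'.img y) :=
    fun {x y} hx hy e => by
      show S'.img x * S'.img y = S'.img y * S'.img x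
      rw [← S'.img_mul (hle hx) (hle hy), ← S'.img_mul (hle hy) (hle hx), e.eq]
  have hab' : S'.img a ≠ S'.img b := fun e => by
    refine hne (mul_mem ha hb) (h.mul_ne_one ha hb hba) (mul_mem aP bP) ?_
    rw [S'.img_mul (hle aP) (hle bP), e, hone bP (h.sq hb)]
  have key := TwoFact.commute_of_two hm F.inn_normal (hmr cP) (hmr uP) (hmr dP) (himg cP) (himg uP) (himg dP)
    (hone cP (h.sq hc)) (hone uP hu.sq) (hone dP hd.sq) (ia ▸ hne ha h1 aP) (ib ▸ hne hb hb1 bP)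
    (by rw [← ia, ← ib]; exact hab') (by rw [← ia]; exact cimg aP dP hd.fix.symm)
    (by rw [← ib]; exact cimg bP uP hu.fix.symm)
  have fP : u * d * u⁻¹ * d⁻¹ ∈ P2 := mul_mem (mul_mem (mul_mem uP dP) (inv_mem uP)) (inv_mem dP)
  have himf : S'.img (u * d * u⁻¹ * d⁻¹) = 1 := by
    rw [S'.img_mul (hle (mul_mem (mul_mem uP dP) (inv_mem uP))) (hle (inv_mem dP)),
      S'.img_mul (hle (mul_mem uP dP)) (hle (inv_mem uP)), S'.img_mul (hle uP) (hle dP),
      S'.img_inv (hle uP), S'.img_inv (hle dP), key.eq]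
    group
  rcases hker fP himf with e | e
  · exact mul_inv_eq_iff_eq_mul.mp (mul_inv_eq_one.mp e)
  · exfalso
    have hzQ : z' ∈ Q a := by
      rw [← e, show u * d * u⁻¹ * d⁻¹ = u * (d * u⁻¹ * d⁻¹) by group]
      exact mul_mem hu.core (isQ.normal hd.fix (inv_mem hu.core))
    have haz : a ≠ z' := h.ne_center F S' hk hs hs3 ha
    rcases S'.fix a (Sa.mem_swap F S' hzQ (Ne.symm haz))
      (Subgroup.mem_centralizer_iff.mp hs a ha) with e' | e'
    · exact h1 e'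
    · exact haz e'

end Cfsg.Agent.Lib.J4Line
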