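import Cfsg.Agent.Lib.J4Line.Seven

/-!
# The normaliser of the special group of order `2^15`
-/

set_option autoImplicit false
set_option linter.unusedSectionVars false
set_option linter.unusedVariables false
set_option linter.style.haveILetI false

namespace Cfsg.Agent.Lib.J4Line

open Cfsg.Agent.Lib.J4Local Cfsg.Agent.Lib.LargeExtraspecial.Basic
open Cfsg.Agent.Lib.FischerLarge99 (SL32 card_SL32 simple_SL32)
open scoped Pointwise

variable {G : Type*} [Group G] [Finite G] {X : Subgroup G} {z : G}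

/-- Normal 2-subgroups of the centraliser meet the complement trivially. -/
theorem inf_two_eq_bot {I U C : Subgroup G} (eI : ↥I ≃* Equiv.Perm (Fin 5)) (hIC : I ≤ C)
    (hC : C ≤ Subgroup.normalizer (U : Set G)) (hU : IsPGroup 2 ↥U) : I ⊓ U = ⊥ := by
  haveI : (U.subgroupOf I).Normal := ⟨fun n hn i => by
    rw [Subgroup.mem_subgroupOf] at hn ⊢
    exact (Subgroup.mem_normalizer_iff.mp (hC (hIC i.2)) _).mp hn⟩
  have h := SymFive.normal_two_eq_bot eI (U.subgroupOf I) (hU.comap_of_injective I.subtype I.subtype_injective)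
  exact (Subgroup.subgroupOf_eq_bot.mp h).symm.eq_bot

theorem IsLam.pairGen (h : IsLam X) (F : AutFacts) {s : G} {I : Subgroup G} (Ds : SevenData X s I)
    (hCc : Nat.card ↥(Subgroup.centralizer (X : Set G)) = 2 ^ 15 * 120) : PairGen X := by
  haveI : Fact (Nat.Prime 2) := ⟨Nat.prime_two⟩
  obtain ⟨eI⟩ := Ds.iso
  intro a ha h1 b hb hb1 hba
  set C := Subgroup.centralizer (X : Set G)
  set L0 := ySub X a ⊔ ySub X b
  have hCn : C ≤ Subgroup.normalizer (L0 : Set G) := fun g hg => IsLam.mem_normalizer_of_forall fun x hx => by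
    obtain ⟨u, hu, v, hv, rfl⟩ := IsLam.exists_mul (a := a) ha hx
    rw [show g * (u * v) * g⁻¹ = g * u * g⁻¹ * (g * v * g⁻¹) by group]
    exact mul_mem (Subgroup.mem_sup_left (IsLam.conj_mem_ySub hg ha hu))
      (Subgroup.mem_sup_right (IsLam.conj_mem_ySub hg hb hv))
  refine le_antisymm (iSup_le fun ⟨c, hc, hc1⟩ => ?_) (sup_le (ySub_le_bigL ha h1) (ySub_le_bigL hb hb1))
  set U := L0 ⊔ ySub X c
  have hLc : L0 ≤ C := sup_le inf_le_right inf_le_right
  have hUC : U ≤ C := sup_le hLc inf_le_right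
  have hcard := OffenderComp.Aux.card_sup_inf (H := L0) (K := ySub X c)
    (hLc.trans (IsLam.centralizer_le_normalizer_ySub hc))
  rw [h.card_pairSub F ha h1 hb hb1 hba, h.card_ySub F hc hc1] at hcard
  have hdvd : Nat.card ↥U ∣ 2 ^ 26 := Dvd.intro _ (hcard.trans (by norm_num))
  obtain ⟨k, -, hk⟩ := (Nat.dvd_prime_pow Nat.prime_two).mp hdvd
  have hCU : C ≤ Subgroup.normalizer (U : Set G) := fun g hg =>
    IsLam.mem_normalizer_of_forall fun x hx => by
      obtain ⟨u, hu, v, hv, rfl⟩ : ∃ u ∈ L0, ∃ v ∈ ySub X c, x = u * v := by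
        have hx' : x ∈ (L0 : Set G) * (ySub X c : Set G) := by
          rw [← Subgroup.coe_mul_of_left_le_normalizer_right L0 (ySub X c)
            (hLc.trans (IsLam.centralizer_le_normalizer_ySub hc))]
          exact hx
        obtain ⟨u, hu, v, hv, rfl⟩ := Set.mem_mul.mp hx'
        exact ⟨u, hu, v, hv, rfl⟩
      rw [show g * (u * v) * g⁻¹ = g * u * g⁻¹ * (g * v * g⁻¹) by group]
      exact mul_mem (Subgroup.mem_sup_left ((Subgroup.mem_normalizer_iff.mp (hCn hg) u).mp hu))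
        (Subgroup.mem_sup_right (IsLam.conj_mem_ySub hg hc hv))
  have hi := inf_two_eq_bot eI Ds.le hCU (IsPGroup.of_card hk)
  have hm := OffenderComp.Aux.card_sup_inf (H := I) (K := U) (Ds.le.trans hCU)
  rw [hi, Subgroup.card_bot, mul_one, SymFive.card_eq eI] at hm
  have hle := Subgroup.card_le_of_le (sup_le Ds.le hUC)
  rw [hm, hCc] at hle
  have heq : L0 = U := Subgroup.eq_of_le_of_card_ge le_sup_left
    (by rw [h.card_pairSub F ha h1 hb hb1 hba]; omega)
  show ySub X c ≤ L0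
  rw [heq]
  exact le_sup_right

/-- The facts of the quotient. -/
theorem IsLam.exists_iso (h : IsLam X) (F : AutFacts) (R : Rows z) (hz : z ∈ X) (hz1 : z ≠ 1) {s : G}
    {I : Subgroup G} (Ds : SevenData X s I) (hp : PairGen X)
    (hCc : Nat.card ↥(Subgroup.centralizer (X : Set G)) = 2 ^ 15 * 120) :
    Nonempty (↥(Subgroup.normalizer (bigL X : Set G)) ⧸
        (bigL X).subgroupOf (Subgroup.normalizer (bigL X : Set G)) ≃*
        Equiv.Perm (Fin 5) × Matrix.SpecialLinearGroup (Fin 3) (ZMod 2)) ∧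
      ∀ K : Subgroup ↥(Subgroup.normalizer (bigL X : Set G)),
        ¬ ((bigL X).subgroupOf (Subgroup.normalizer (bigL X : Set G))).IsComplement' K := by
  haveI : Fact (Nat.Prime 2) := ⟨Nat.prime_two⟩
  haveI := Fact.mk Nat.prime_five
  haveI := simple_SL32
  obtain ⟨eI⟩ := Ds.iso
  have hNL := h.normalizer_bigL F hp
  set L := bigL X
  set C := Subgroup.centralizer (X : Set G)
  set N := Subgroup.normalizer (L : Set G)
  obtain ⟨φ, hφs, hφ⟩ : ∃ φ : ↥N →* SL32, Function.Surjective φ ∧ ∀ l, φ l = 1 ↔ (l : G) ∈ C := by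
    obtain ⟨φ₀, hs₀, h₀⟩ := h.exists_phi F
    refine ⟨φ₀.comp (MulEquiv.subgroupCongr hNL).toMonoidHom,
      hs₀.comp (MulEquiv.subgroupCongr hNL).surjective, fun l => ?_⟩
    exact h₀ _
  have hCN : C ≤ N := hNL ▸ Subgroup.centralizer_le_normalizer _
  have hLC : L ≤ C := bigL_le_centralizer
  have hIN : I ≤ N := Ds.le.trans hCN
  have hCL : C ≤ Subgroup.normalizer (L : Set G) := hCN
  have hIL : I ⊓ L = ⊥ := inf_two_eq_bot eI Ds.le hCL (IsPGroup.of_card (h.card_bigL F hp))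
  have hsplit : ∀ c ∈ C, ∃ i ∈ I, ∃ l ∈ L, c = i * l := by
    have hm := OffenderComp.Aux.card_sup_inf (H := I) (K := L) (Ds.le.trans hCL)
    rw [hIL, Subgroup.card_bot, mul_one, SymFive.card_eq eI, h.card_bigL F hp] at hm
    have heq : I ⊔ L = C := Subgroup.eq_of_le_of_card_ge (sup_le Ds.le hLC)
      (le_of_eq (hCc.trans ((mul_comm _ _).trans hm.symm)))
    intro c hc
    have hc' : c ∈ (I : Set G) * (L : Set G) := by
      rw [← Subgroup.coe_mul_of_left_le_normalizer_right I L (Ds.le.trans hCL), heq]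
      exact hc
    obtain ⟨i, hi, l, hl, rfl⟩ := Set.mem_mul.mp hc'
    exact ⟨i, hi, l, hl, rfl⟩
  set L' := L.subgroupOf N
  haveI : L'.Normal := Subgroup.normal_in_normalizer
  set π := QuotientGroup.mk' L'
  set φb : ↥N ⧸ L' →* SL32 := QuotientGroup.lift L' φ fun x hx => (hφ x).mpr (hLC hx)
  have hφb : ∀ x, φb (π x) = φ x := fun x => rfl
  set Cb : Subgroup (↥N ⧸ L') := (C.subgroupOf N).map π
  have hker : ∀ w, φb w = 1 ↔ w ∈ Cb := by
    intro w
    obtain ⟨x, rfl⟩ := QuotientGroup.mk'_surjective L' w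
    constructor
    · intro hx
      exact ⟨x, Subgroup.mem_subgroupOf.mpr ((hφ x).mp hx), rfl⟩
    · rintro ⟨y, hy, hyx⟩
      rw [← hyx]
      exact (hφ y).mpr (Subgroup.mem_subgroupOf.mp hy)
  haveI hCbn : Cb.Normal := by
    rw [show Cb = φb.ker from Subgroup.ext fun w => ((hker w).symm : w ∈ Cb ↔ _)]
    infer_instance
  let ι : ↥I →* ↥N ⧸ L' := π.comp (Subgroup.inclusion hIN)
  have hιinj : Function.Injective ι := by
    rw [injective_iff_map_eq_one]
    intro i hi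
    have hm : (i : G) ∈ I ⊓ L := ⟨i.2, by simpa [ι, π, L', Subgroup.mem_subgroupOf] using hi⟩
    rw [hIL, Subgroup.mem_bot] at hm
    exact Subtype.ext hm
  have hιC : ∀ w, w ∈ Cb ↔ ∃ i, ι i = w := by
    intro w
    constructor
    · rintro ⟨x, hx, rfl⟩
      obtain ⟨i, hi, l, hl, hil⟩ := hsplit _ (Subgroup.mem_subgroupOf.mp hx)
      refine ⟨⟨i, hi⟩, ?_⟩
      show π ⟨i, hIN hi⟩ = π x
      rw [show x = ⟨i, hIN hi⟩ * ⟨l, hCN (hLC hl)⟩ from Subtype.ext hil, map_mul,
        show π ⟨l, hCN (hLC hl)⟩ = 1 from (QuotientGroup.eq_one_iff _).mpr hl, mul_one]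
    · rintro ⟨i, rfl⟩
      exact ⟨⟨i, hIN i.2⟩, Ds.le i.2, rfl⟩
  set Db : Subgroup (↥N ⧸ L') := Subgroup.centralizer (Cb : Set (↥N ⧸ L'))
  have hDC : ∀ d ∈ Db, d ∈ Cb → d = 1 := by
    intro d hd hdC
    obtain ⟨i, rfl⟩ := (hιC d).mp hdC
    rw [SymFive.centre_trivial eI (x := i) fun y => hιinj ?_, map_one]
    rw [map_mul, map_mul]
    exact (Subgroup.mem_centralizer_iff.mp hd (ι y) ((hιC _).mpr ⟨y, rfl⟩)).symm
  haveI hDn : Db.Normal := inferInstance
  let ψ : ↥Db →* SL32 := φb.comp Db.subtype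
  have hψi : Function.Injective ψ := by
    rw [injective_iff_map_eq_one]
    exact fun d hd => Subtype.ext (hDC d d.2 ((hker d.1).mp hd))
  have hψs : Function.Surjective ψ := by
    refine MonoidHom.range_eq_top.mp ?_
    have hn : ψ.range.Normal := by
      rw [show ψ.range = Db.map φb by rw [MonoidHom.range_eq_map, ← Subgroup.map_map, ← MonoidHom.range_eq_map, Subgroup.range_subtype]]
      exact Subgroup.Normal.map hDn φb fun y => by
        obtain ⟨x, hx⟩ := hφs y
        exact ⟨π x, hx⟩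
    refine hn.eq_bot_or_eq_top.resolve_left fun hbot => Ds.not_mem ?_
    have hsN : s ∈ N := hNL ▸ Ds.mem
    have hsD : π ⟨s, hsN⟩ ∈ Db := by
      refine Subgroup.mem_centralizer_iff.mpr fun w hw => ?_
      obtain ⟨i, rfl⟩ := (hιC w).mp hw
      show π ⟨i, hIN i.2⟩ * π ⟨s, hsN⟩ = π ⟨s, hsN⟩ * π ⟨i, hIN i.2⟩
      rw [← map_mul, ← map_mul]
      exact congrArg π (Subtype.ext (mem_cz.mp (Ds.product.2.1 i.2)).eq)
    have : ψ ⟨_, hsD⟩ = 1 := by
      have hm : ψ ⟨_, hsD⟩ ∈ ψ.range := ⟨_, rfl⟩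
      rwa [hbot, Subgroup.mem_bot] at hm
    exact (hφ ⟨s, hsN⟩).mp this
  let eD : ↥Db ≃* SL32 := MulEquiv.ofBijective ψ ⟨hψi, hψs⟩
  refine ⟨?_, fun K hK => ?_⟩
  · let f1 : Equiv.Perm (Fin 5) →* ↥N ⧸ L' := ι.comp eI.symm.toMonoidHom
    let f2 : SL32 →* ↥N ⧸ L' := Db.subtype.comp eD.symm.toMonoidHom
    have hcomm : ∀ a b, Commute (f1 a) (f2 b) := fun a b =>
      Subgroup.mem_centralizer_iff.mp (eD.symm b).2 _ ((hιC _).mpr ⟨eI.symm a, rfl⟩)
    refine ⟨(MulEquiv.ofBijective (f1.noncommCoprod f2 hcomm) ⟨?_, ?_⟩).symm⟩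
    · rw [injective_iff_map_eq_one]
      rintro ⟨a, b⟩ hab
      rw [MonoidHom.noncommCoprod_apply] at hab
      have hd : f2 b = 1 := by
        refine hDC _ (eD.symm b).2 ?_
        show f2 b ∈ Cb
        rw [eq_inv_of_mul_eq_one_right hab]
        exact inv_mem ((hιC _).mpr ⟨eI.symm a, rfl⟩)
      rw [hd, mul_one] at hab
      refine Prod.ext ?_ ?_
      · have := hιinj (hab.trans (map_one ι).symm)
        exact eI.symm.injective (this.trans (map_one _).symm)
      · exact eD.symm.injective ((Subtype.ext hd).trans (map_one _).symm)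
    · intro w
      have hw : w * ((eD.symm (φb w) : ↥Db) : ↥N ⧸ L')⁻¹ ∈ Cb := by
        rw [← hker, map_mul, map_inv, mul_inv_eq_one]
        exact (eD.apply_symm_apply (φb w)).symm
      obtain ⟨i, hi⟩ := (hιC _).mp hw
      refine ⟨(eI i, φb w), ?_⟩
      rw [MonoidHom.noncommCoprod_apply]
      show ι (eI.symm (eI i)) * ((eD.symm (φb w) : ↥Db) : ↥N ⧸ L') = w
      rw [MulEquiv.symm_apply_apply, hi, inv_mul_cancel_right]
  · -- no complement
    have hcompl := Subgroup.IsComplement'.disjoint hK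
    let πK : ↥K →* ↥N ⧸ L' := π.comp K.subtype
    have hKinj : Function.Injective πK := by
      rw [injective_iff_map_eq_one]
      intro k hk
      have hmem : (k : ↥N) ∈ L' := (QuotientGroup.eq_one_iff (k : ↥N)).mp hk
      exact Subtype.ext (Subgroup.mem_bot.mp (hcompl.le_bot ⟨hmem, k.2⟩))
    have hKsurj : Function.Surjective πK := by
      intro w
      obtain ⟨x, rfl⟩ := QuotientGroup.mk'_surjective L' w
      obtain ⟨⟨⟨l, hl⟩, ⟨k, hk⟩⟩, hlk⟩ := hK.2 x
      refine ⟨⟨k, hk⟩, ?_⟩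
      show π k = π x
      rw [← show l * k = x from hlk, map_mul,
        show π l = 1 from (QuotientGroup.eq_one_iff _).mpr hl, one_mul]
    let eK : ↥K ≃* ↥N ⧸ L' := MulEquiv.ofBijective πK ⟨hKinj, hKsurj⟩
    obtain ⟨i5, hi5⟩ := exists_prime_orderOf_dvd_card' (G := ↥I) 5 (by rw [SymFive.card_eq eI]; norm_num)
    set k5 : G := (((eK.symm (ι i5) : ↥K) : ↥N) : G) with hk5
    let incl : ↥N ⧸ L' →* G := (N.subtype.comp K.subtype).comp eK.symm.toMonoidHom
    have hincl : Function.Injective incl := fun a b hab =>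
      eK.symm.injective (Subtype.ext (Subtype.ext hab))
    have ho5 : orderOf k5 = 5 := by
      show orderOf (incl (ι i5)) = 5
      rw [orderOf_injective incl hincl, orderOf_injective ι hιinj, hi5]
    have hk5C : k5 ∈ C := by
      refine (hφ ((eK.symm (ι i5) : ↥K) : ↥N)).mp ?_
      show φb (πK (eK.symm (ι i5))) = 1
      rw [show πK (eK.symm (ι i5)) = ι i5 from eK.apply_symm_apply _]
      exact (hker _).mpr ((hιC _).mpr ⟨i5, rfl⟩)
    let ξ : SL32 →* G := incl.comp (Db.subtype.comp eD.symm.toMonoidHom)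
    have hξ : Function.Injective ξ := hincl.comp (Subtype.val_injective.comp eD.symm.injective)
    have hξc : ∀ y, Commute (ξ y) k5 := fun y =>
      (show Commute (((eD.symm y : ↥Db) : ↥N ⧸ L')) (ι i5) from
        (Subgroup.mem_centralizer_iff.mp (eD.symm y).2 _ ((hιC _).mpr ⟨i5, rfl⟩)).symm).map incl
    obtain ⟨-, ⟨J, hJ, E, hEn, hEab, hE8, ⟨eJ⟩, hns⟩, -, -⟩ := R.five (Subgroup.zpowers k5)
      (by rw [Nat.card_zpowers, ho5])
      (Subgroup.zpowers_le.mpr (mem_cz.mpr (Subgroup.mem_centralizer_iff.mp hk5C z hz).symm))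
    have hJmem : ∀ y, ξ y ∈ J := fun y => by
      refine mem_right_of_pow hJ (n := 168) (by rw [Nat.card_zpowers, ho5]; decide)
        (by rw [cent_zpowers]; exact mem_cz.mpr (hξc y)) ?_
      rw [← map_pow, ← card_SL32, pow_card_eq_one', map_one]
    let ξJ : SL32 →* ↥J := ξ.codRestrict J hJmem
    have hξJ : Function.Injective ξJ := fun a b hab => hξ (show ξ a = ξ b from congrArg (fun x : ↥J => (x : G)) hab)
    refine hns ξJ.range (Subgroup.isComplement'_of_card_mul_and_disjoint ?_ ?_)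
    · rw [← Nat.card_congr (MonoidHom.ofInjective hξJ).toEquiv, card_SL32, hE8,
        Subgroup.card_eq_card_quotient_mul_card_subgroup E, Nat.card_congr eJ.toEquiv, card_SL32, hE8]
    · rw [disjoint_iff_inf_le]
      rintro x ⟨hxE, y, rfl⟩
      haveI : (E.comap ξJ).Normal := hEn.comap ξJ
      rcases (inferInstance : (E.comap ξJ).Normal).eq_bot_or_eq_top with e | e
      · have hy : y ∈ E.comap ξJ := hxE
        rw [e, Subgroup.mem_bot] at hy
        rw [hy, map_one]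
        exact one_mem _
      · exfalso
        have hle : ξJ.range ≤ E := by
          rintro _ ⟨w, rfl⟩
          exact (e ▸ Subgroup.mem_top w : w ∈ E.comap ξJ)
        have := Subgroup.card_le_of_le hle
        rw [← Nat.card_congr (MonoidHom.ofInjective hξJ).toEquiv, card_SL32, hE8] at this
        norm_num at this

/-- The normaliser of a Sylow 7-subgroup. -/
theorem IsLam.normalizer_seven_le (h : IsLam X) (F : AutFacts) {s : G} {I : Subgroup G}
    (Ds : SevenData X s I) :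
    Subgroup.normalizer (Subgroup.zpowers s : Set G) ≤ Subgroup.normalizer (X : Set G) := by
  haveI := Fact.mk (show Nat.Prime 7 by norm_num)
  obtain ⟨eI⟩ := Ds.iso
  set N := Subgroup.normalizer (X : Set G)
  obtain ⟨φ, hφs, hφ⟩ : ∃ φ : ↥N →* SL32, Function.Surjective φ ∧
      ∀ l, φ l = 1 ↔ (l : G) ∈ Subgroup.centralizer (X : Set G) := h.exists_phi F
  set Ns := Subgroup.normalizer (Subgroup.zpowers s : Set G)
  obtain ⟨σ, hσdef⟩ : ∃ σ, σ = φ ⟨s, Ds.mem⟩ := ⟨_, rfl⟩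
  have hσ : orderOf σ = 7 := by
    refine orderOf_eq_prime ?_ fun e => Ds.not_mem ((hφ ⟨s, Ds.mem⟩).mp (hσdef.symm.trans e))
    rw [hσdef, ← map_pow, show (⟨s, Ds.mem⟩ : ↥N) ^ 7 = 1 from Subtype.ext (Ds.order ▸ pow_orderOf_eq_one s), map_one]
  set NS := Subgroup.normalizer (Subgroup.zpowers σ : Set SL32)
  have h21 : 21 ≤ Nat.card ↥NS := by
    have hf : (Nat.card SL32).factorization 7 = 1 := by rw [card_SL32]; decide +kernel
    let P : Sylow 7 SL32 := Sylow.ofCard (Subgroup.zpowers σ) (by rw [hf, pow_one, Nat.card_zpowers, hσ])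
    have h1 := card_sylow_modEq_one 7 SL32
    have hdvd := P.card_dvd_index
    have hidx := Subgroup.card_mul_index (P : Subgroup SL32)
    rw [show Nat.card ↥(P : Subgroup SL32) = 7 by rw [P.card_eq_multiplicity, hf, pow_one], card_SL32] at hidx
    rw [show (P : Subgroup SL32).index = 24 by omega] at hdvd
    have h8 : Nat.card (Sylow 7 SL32) ≤ 8 := by
      have hle := Nat.le_of_dvd (by norm_num) hdvd
      unfold Nat.ModEq at h1
      generalize Nat.card (Sylow 7 SL32) = n at *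
      interval_cases n <;> omega
    rw [Sylow.card_eq_index_normalizer P] at h8
    replace h8 : NS.index ≤ 8 := h8
    have h5 := Subgroup.card_mul_index NS
    rw [card_SL32] at h5
    nlinarith
  let ψ : ↥(N ⊓ Ns : Subgroup G) →* SL32 := φ.comp (Subgroup.inclusion inf_le_left)
  have hrange : NS ≤ ψ.range := by
    intro y hy
    obtain ⟨g, rfl⟩ := hφs y
    obtain ⟨i, hi⟩ := (Subgroup.mem_normalizer_iff.mp hy σ).mp (Subgroup.mem_zpowers σ)
    set M := ((Subgroup.zpowers σ).comap φ).map N.subtype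
    have ha : (g : G) * s * (g : G)⁻¹ ∈ M :=
      ⟨g * ⟨s, Ds.mem⟩ * g⁻¹, ⟨i, by rw [map_mul, map_mul, map_inv, ← hσdef]; exact hi⟩, rfl⟩
    have hb : s ∈ M := ⟨⟨s, Ds.mem⟩, Subgroup.mem_comap.mpr (hσdef ▸ Subgroup.mem_zpowers σ), rfl⟩
    obtain ⟨m, ⟨⟨m', hm'N⟩, hm', rfl⟩, hms⟩ := conj_prime (M := M) (p := 7)
      (fun e => Ds.not_dvd ((by norm_num : (49 : ℕ) = 7 ^ 2) ▸ e.trans (Subgroup.card_subgroup_dvd_card M)))
      ha hb ((MulEquiv.orderOf_eq (MulAut.conj (g : G)) s).trans Ds.order) Ds.order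
    obtain ⟨j, hj⟩ := hm'
    have hmg : m' * g ∈ Ns := by
      refine mem_normalizer_zpowers Ds.order ?_
      rw [show m' * g * s * (m' * g)⁻¹ = m' * ((g : G) * s * (g : G)⁻¹) * m'⁻¹ by group]
      exact hms
    have hsj : (s ^ j)⁻¹ ∈ Ns :=
      Ns.inv_mem (Subgroup.le_normalizer (Subgroup.zpow_mem _ (Subgroup.mem_zpowers s) j))
    have hy' : ∀ (h1 : (s ^ j)⁻¹ * (m' * g) ∈ N), φ ⟨(s ^ j)⁻¹ * (m' * g), h1⟩ = φ g := fun h1 => by
      rw [show (⟨(s ^ j)⁻¹ * (m' * g), h1⟩ : ↥N) = (⟨s, Ds.mem⟩ ^ j)⁻¹ * (⟨m', hm'N⟩ * g) from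
        Subtype.ext (by simp), map_mul, map_mul, map_inv, map_zpow, ← hσdef,
        show φ ⟨m', hm'N⟩ = σ ^ j from hj.symm, inv_mul_cancel_left]
    exact ⟨⟨(s ^ j)⁻¹ * (m' * g), N.mul_mem (N.inv_mem (N.zpow_mem Ds.mem j)) (N.mul_mem hm'N g.2),
      Ns.mul_mem hsj hmg⟩, hy' _⟩
  have hI : Nat.card ↥I ≤ Nat.card ↥ψ.ker := by
    have hmem : ∀ i ∈ I, i ∈ N ⊓ Ns := fun i hi => by
      refine ⟨Subgroup.centralizer_le_normalizer _ (Ds.le hi), mem_normalizer_zpowers Ds.order ?_⟩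
      rw [mul_inv_eq_iff_eq_mul.mpr (mem_cz.mp (Ds.product.2.1 hi)).eq]
      exact Subgroup.mem_zpowers s
    exact Nat.card_le_card_of_injective (fun i => ⟨⟨i, hmem i i.2⟩, (hφ _).mpr (Ds.le i.2)⟩)
      fun a b hab => Subtype.ext (congrArg (fun x : ↥ψ.ker => ((x.1 : ↥(N ⊓ Ns : Subgroup G)) : G)) hab)
  have hc := Subgroup.card_mul_index ψ.ker
  rw [Subgroup.index_ker] at hc
  have hr := h21.trans (Subgroup.card_le_of_le hrange)
  rw [SymFive.card_eq eI] at hI
  have : Nat.card ↥Ns ≤ Nat.card ↥(N ⊓ Ns : Subgroup G) := by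
    rw [Ds.card_norm, ← hc]
    exact (show 2520 ≤ 120 * 21 by norm_num).trans (Nat.mul_le_mul hI hr)
  rw [← Subgroup.eq_of_le_of_card_ge (inf_le_right : N ⊓ Ns ≤ Ns) this]
  exact inf_le_left

/-- All parts of the statement except the subgroup isomorphic to `SL(3,2)`. -/
theorem local_of_rows [IsSimpleGroup G] (hG : ¬ IsMulCommutative G) {p : G} (S : Setting z p)
    (F : AutFacts) (R : Rows z) :
    ∃ X : Subgroup G, IsLam X ∧ z ∈ X ∧ PairGen X ∧
      Cfsg.IsSpecial 2 ↥(bigL X) ∧ Nat.card ↥(bigL X) = 2 ^ 15 ∧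
      Nat.card ↥(Subgroup.center ↥(bigL X)) = 8 ∧
      Nonempty (↥(Subgroup.normalizer (bigL X : Set G)) ⧸
        (bigL X).subgroupOf (Subgroup.normalizer (bigL X : Set G)) ≃*
        Equiv.Perm (Fin 5) × Matrix.SpecialLinearGroup (Fin 3) (ZMod 2)) ∧
      (∀ K : Subgroup ↥(Subgroup.normalizer (bigL X : Set G)),
        ¬ ((bigL X).subgroupOf (Subgroup.normalizer (bigL X : Set G))).IsComplement' K) ∧
      (∃ K₁ : Subgroup G, K₁ ≤ Subgroup.normalizer (bigL X : Set G) ∧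
        Nonempty (↥K₁ ≃* Equiv.Perm (Fin 5))) ∧
      (∃ P : Sylow 5 G, Subgroup.normalizer ((P : Subgroup G) : Set G) ≤
        Subgroup.normalizer (bigL X : Set G)) ∧
      (∃ P : Sylow 7 G, Subgroup.normalizer ((P : Subgroup G) : Set G) ≤
        Subgroup.normalizer (bigL X : Set G)) := by
  haveI := Fact.mk Nat.prime_five
  haveI := Fact.mk (show Nat.Prime 7 by norm_num)
  obtain ⟨X, h, hz⟩ := exists_isLam hG S F
  have hz1 := S.z_ne_one
  obtain ⟨q, Dq⟩ := h.exists_five F R hz hz1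
  obtain ⟨s, I, Ds⟩ := h.exists_seven F R hz hz1
  have hCc := h.card_centralizer F R hz hz1
  have hp := h.pairGen F Ds hCc
  have hNL := h.normalizer_bigL F hp
  obtain ⟨hiso, hno⟩ := h.exists_iso F R hz hz1 Ds hp hCc
  refine ⟨X, h, hz, hp, h.isSpecial_bigL F hp, h.card_bigL F hp, h.card_center_bigL F hp, hiso, hno,
    ⟨I, hNL ▸ Ds.le.trans (Subgroup.centralizer_le_normalizer _), Ds.iso⟩, ?_, ?_⟩
  · obtain ⟨h25, -⟩ := R.five (Subgroup.zpowers q) (by rw [Nat.card_zpowers, Dq.order])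
      (Subgroup.zpowers_le.mpr (mem_cz.mpr (Subgroup.mem_centralizer_iff.mp Dq.mem z hz).symm))
    have hf : (Nat.card G).factorization 5 = 1 := by
      have h1 := Nat.prime_five.factorization_pos_of_dvd Nat.card_pos.ne' (Dq.order ▸ orderOf_dvd_natCard q)
      have h2 : ¬ 2 ≤ (Nat.card G).factorization 5 := fun h2 => h25
        ((Nat.prime_five.pow_dvd_iff_le_factorization Nat.card_pos.ne').mpr h2)
      omega
    refine ⟨Sylow.ofCard (Subgroup.zpowers q) (by rw [hf, pow_one, Nat.card_zpowers, Dq.order]), ?_⟩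
    rw [hNL]
    exact Dq.norm_le
  · have hf : (Nat.card G).factorization 7 = 1 := by
      have h1 := (Fact.out : Nat.Prime 7).factorization_pos_of_dvd Nat.card_pos.ne'
        (Ds.order ▸ orderOf_dvd_natCard s)
      have h2 : ¬ 2 ≤ (Nat.card G).factorization 7 := fun h2 => Ds.not_dvd
        (((Fact.out : Nat.Prime 7).pow_dvd_iff_le_factorization Nat.card_pos.ne').mpr h2)
      omega
    refine ⟨Sylow.ofCard (Subgroup.zpowers s) (by rw [hf, pow_one, Nat.card_zpowers, Ds.order]), ?_⟩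
    rw [hNL]
    exact h.normalizer_seven_le F Ds

end Cfsg.Agent.Lib.J4Line
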