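import Cfsg.Agent.Lib.J4Line.Split
import Cfsg.Agent.Lib.J4Five.Rows
import Cfsg.Agent.Lib.J4Seven.Rows

/-!
# S5574 from the three rows on the normaliser of `2^11` and on the second involution centralizer
-/

set_option autoImplicit false

namespace Cfsg.Agent.Lib.J4Line

open Cfsg.Agent.Lib.J4Local

/-- The special group of order `2^15` and its normaliser, given S5567, S5568, S5569 at `z`. -/
theorem line_of_rows {G : Type*} [Group G] [Finite G] [IsSimpleGroup G]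
    (hG : ¬ IsMulCommutative G) (z : G) (hJ : Cfsg.IsOfJankoFourTypeAt z)
    (h67 : ∀ V : Subgroup G, Cfsg.IsElementaryAbelian 2 V → Nat.card ↥V = 2 ^ 11 →
      Subgroup.centralizer (V : Set G) ≤ V ∧ ∃ K : Subgroup G,
        K ≤ Subgroup.normalizer (V : Set G) ∧ K ⊓ V = ⊥ ∧
        K ⊔ V = Subgroup.normalizer (V : Set G) ∧ Cfsg.Spor.IsoM24 ↥K)
    (h68 : ∀ V : Subgroup G, Cfsg.IsElementaryAbelian 2 V → Nat.card ↥V = 2 ^ 11 →
      ∃ z' t : G, z' ∈ V ∧ t ∈ V ∧ t ≠ 1 ∧ IsConj z z' ∧ ¬ IsConj z t ∧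
      Set.ncard {v : G | ∃ n ∈ Subgroup.normalizer (V : Set G), n * z' * n⁻¹ = v} = 1771 ∧
      Set.ncard {v : G | ∃ n ∈ Subgroup.normalizer (V : Set G), n * t * n⁻¹ = v} = 276 ∧
      Subgroup.centralizer ({t} : Set G) ≤ Subgroup.normalizer (V : Set G))
    (h69 : ∀ t : G, orderOf t = 2 → ¬ IsConj z t → ∃ V K : Subgroup G,
      V ≤ Subgroup.centralizer ({t} : Set G) ∧ K ≤ Subgroup.centralizer ({t} : Set G) ∧
      Subgroup.centralizer ({t} : Set G) ≤ Subgroup.normalizer (V : Set G) ∧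
      Cfsg.IsElementaryAbelian 2 V ∧ Nat.card ↥V = 2 ^ 11 ∧ K ⊓ V = ⊥ ∧
      K ⊔ V = Subgroup.centralizer ({t} : Set G) ∧ Nonempty (↥K ≃* MulAut ↥Cfsg.Spor.M22)) :
    ∃ L : Subgroup G, Cfsg.IsSpecial 2 ↥L ∧ Nat.card ↥L = 2 ^ 15 ∧ Nat.card ↥(Subgroup.center ↥L) = 8 ∧
    Nonempty (↥(Subgroup.normalizer (L : Set G)) ⧸ L.subgroupOf (Subgroup.normalizer (L : Set G)) ≃* Equiv.Perm (Fin 5) × Matrix.SpecialLinearGroup (Fin 3) (ZMod 2)) ∧
    (∀ K : Subgroup ↥(Subgroup.normalizer (L : Set G)), ¬ (L.subgroupOf (Subgroup.normalizer (L : Set G))).IsComplement' K) ∧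
    (∃ K₁ : Subgroup G, K₁ ≤ Subgroup.normalizer (L : Set G) ∧ Nonempty (↥K₁ ≃* Equiv.Perm (Fin 5))) ∧
    (∃ K₂ : Subgroup G, K₂ ≤ Subgroup.normalizer (L : Set G) ∧ Nonempty (↥K₂ ≃* Matrix.SpecialLinearGroup (Fin 3) (ZMod 2))) ∧
    (∃ Q : Sylow 5 G, Subgroup.normalizer ((Q : Subgroup G) : Set G) ≤ Subgroup.normalizer (L : Set G)) ∧
    (∃ S : Sylow 7 G, Subgroup.normalizer ((S : Subgroup G) : Set G) ≤ Subgroup.normalizer (L : Set G)) := by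
  obtain ⟨p, S⟩ := Setting.of_at hJ
  have R : Rows z := ⟨fun Q hQ hQz => J4Five.five_of_rows hG z hJ h67 h68 h69 Q hQ hQz,
    fun T hT hTz => J4Seven.seven_of_rows hG z hJ h67 h68 h69 T hT hTz⟩
  obtain ⟨X, h, hz, hp, h1, h2, h3, h4, h5, h6, h7, h8⟩ := local_of_rows hG S autFacts R
  obtain ⟨t, I, D⟩ := h.exists_seven autFacts R hz S.z_ne_one
  obtain ⟨K₂, hK, hiso⟩ :=
    h.exists_linear hG S autFacts D hp (h.card_centralizer autFacts R hz S.z_ne_one)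
  exact ⟨bigL X, h1, h2, h3, h4, h5, h6, ⟨K₂, h.normalizer_bigL autFacts hp ▸ hK, hiso⟩, h7, h8⟩

end Cfsg.Agent.Lib.J4Line
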