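import Mathlib
import Cfsg.Agent.Lib.ThreeTranspositions.LocalSThree

/-!
# Elementary facts on a group isomorphic to the symmetric group of degree five
-/

set_option autoImplicit false
set_option linter.unusedSectionVars false

namespace Cfsg.Agent.Lib.J4Line.SymFive

variable {I : Type*} [Group I] [Finite I]

theorem card_eq (e : I ≃* Equiv.Perm (Fin 5)) : Nat.card I = 120 := by
  rw [Nat.card_congr e.toEquiv, Nat.card_eq_fintype_card, Fintype.card_perm]
  rfl

theorem centre_trivial (e : I ≃* Equiv.Perm (Fin 5)) {x : I} (h : ∀ y, x * y = y * x) : x = 1 := by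
  refine e.injective ?_
  rw [map_one]
  refine Cfsg.Agent.Lib.ThreeTranspositions.LocalSThree.perm_five_center _ fun i => ?_
  conv_lhs => rw [← e.apply_symm_apply (Equiv.swap i.castSucc i.succ), ← map_mul, h, map_mul,
    e.apply_symm_apply]

/-- Normal subgroups are trivial or contain the alternating group. -/
theorem alt_le (U : Subgroup (Equiv.Perm (Fin 5))) [U.Normal] :
    U = ⊥ ∨ alternatingGroup (Fin 5) ≤ U := by
  rcases alternatingGroup.isSimpleGroup_five.eq_bot_or_eq_top_of_normal
    (U.subgroupOf (alternatingGroup (Fin 5))) (Subgroup.Normal.subgroupOf inferInstance _) with h | h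
  · refine Or.inl ((Subgroup.eq_bot_iff_forall _).mpr fun x hx => ?_)
    have key : ∀ a ∈ alternatingGroup (Fin 5), a ∈ U → a = 1 := fun a ha haU => by
      have : (⟨a, ha⟩ : alternatingGroup (Fin 5)) ∈ U.subgroupOf (alternatingGroup (Fin 5)) :=
        Subgroup.mem_subgroupOf.mpr haU
      rw [h, Subgroup.mem_bot] at this
      exact congrArg Subtype.val this
    refine Cfsg.Agent.Lib.ThreeTranspositions.LocalSThree.perm_five_center _ fun i => ?_
    set y := Equiv.swap i.castSucc i.succ
    have hm : x * y * x⁻¹ * y⁻¹ ∈ U := by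
      rw [show x * y * x⁻¹ * y⁻¹ = x * (y * x⁻¹ * y⁻¹) by group]
      exact U.mul_mem hx ((inferInstance : U.Normal).conj_mem _ (U.inv_mem hx) y)
    have ha : x * y * x⁻¹ * y⁻¹ ∈ alternatingGroup (Fin 5) := by
      rw [Equiv.Perm.mem_alternatingGroup, map_mul, map_mul, map_mul, map_inv, map_inv]
      rcases Int.units_eq_one_or (Equiv.Perm.sign x) with h' | h' <;>
        rcases Int.units_eq_one_or (Equiv.Perm.sign y) with h'' | h'' <;> rw [h', h''] <;> rfl
    exact mul_inv_eq_iff_eq_mul.mp (mul_inv_eq_one.mp (key _ ha hm))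
  · exact Or.inr (Subgroup.subgroupOf_eq_top.mp h)

/-- There is no nontrivial normal 2-subgroup. -/
theorem normal_two_eq_bot (e : I ≃* Equiv.Perm (Fin 5)) (U : Subgroup I) [U.Normal]
    (hU : IsPGroup 2 ↥U) : U = ⊥ := by
  haveI : (U.map e.toMonoidHom).Normal := Subgroup.Normal.map inferInstance _ e.surjective
  rcases alt_le (U.map e.toMonoidHom) with h | h
  · exact (Subgroup.map_eq_bot_iff_of_injective _ e.injective).mp h
  · haveI : Fact (Nat.Prime 2) := ⟨Nat.prime_two⟩
    obtain ⟨k, hk⟩ := (hU.map e.toMonoidHom).exists_card_eq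
    have h60 := Subgroup.card_dvd_of_le h
    rw [hk, show Nat.card ↥(alternatingGroup (Fin 5)) = 60 by
      rw [Nat.card_eq_fintype_card]; decide +kernel] at h60
    exact absurd ((Nat.Prime.dvd_of_dvd_pow Nat.prime_three ((by norm_num : (3 : ℕ) ∣ 60).trans h60)))
      (by norm_num)

/-- A nontrivial normal subgroup contains all squares. -/
theorem sq_mem (e : I ≃* Equiv.Perm (Fin 5)) (U : Subgroup I) [U.Normal] (hU : U ≠ ⊥) (g : I) :
    g * g ∈ U := by
  haveI : (U.map e.toMonoidHom).Normal := Subgroup.Normal.map inferInstance _ e.surjective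
  rcases alt_le (U.map e.toMonoidHom) with h | h
  · exact absurd ((Subgroup.map_eq_bot_iff_of_injective _ e.injective).mp h) hU
  · have hmem : e (g * g) ∈ U.map e.toMonoidHom := h (by
      rw [Equiv.Perm.mem_alternatingGroup, map_mul, map_mul]
      rcases Int.units_eq_one_or (Equiv.Perm.sign (e g)) with h' | h' <;> rw [h'] <;> rfl)
    obtain ⟨u, hu, hue⟩ := hmem
    rwa [← e.injective (hue : e u = e (g * g))]

theorem sylow_card {q : I} (hq : orderOf q = 5) (h : Nat.card I = 120) :
    ∃ P : Sylow 5 I, (P : Subgroup I) = Subgroup.zpowers q := by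
  haveI := Fact.mk Nat.prime_five
  refine ⟨Sylow.ofCard (Subgroup.zpowers q) ?_, rfl⟩
  rw [Nat.card_zpowers, hq, h]
  decide +kernel

/-- The normaliser of a Sylow 5-subgroup has order at least 20. -/
theorem twenty_le (h : Nat.card I = 120) {q : I} (hq : orderOf q = 5) :
    20 ≤ Nat.card ↥(Subgroup.normalizer (Subgroup.zpowers q : Set I)) := by
  haveI := Fact.mk Nat.prime_five
  obtain ⟨P, hP⟩ := sylow_card hq h
  have h1 := card_sylow_modEq_one 5 I
  have h2 : Nat.card (Sylow 5 I) ∣ 24 := by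
    have h3 := P.card_dvd_index
    have h4 := Subgroup.card_mul_index (P : Subgroup I)
    rw [hP, Nat.card_zpowers, hq, h] at h4
    rw [show (P : Subgroup I).index = 24 by rw [hP]; omega] at h3
    exact h3
  have h6 : Nat.card (Sylow 5 I) ≤ 6 := by
    have hle := Nat.le_of_dvd (by norm_num) h2
    unfold Nat.ModEq at h1
    generalize Nat.card (Sylow 5 I) = n at *
    interval_cases n <;> omega
  rw [Sylow.card_eq_index_normalizer P] at h6
  replace h6 : (Subgroup.normalizer ((P : Subgroup I) : Set I)).index ≤ 6 := h6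
  rw [hP] at h6
  have h5 := Subgroup.card_mul_index (Subgroup.normalizer (Subgroup.zpowers q : Set I))
  rw [h] at h5
  nlinarith

/-- The normaliser of a Sylow 5-subgroup and a second one generate. -/
theorem eq_top (h : Nat.card I = 120) {q r : I} (hq : orderOf q = 5) (hr : orderOf r = 5)
    (hne : r ∉ Subgroup.zpowers q) {D : Subgroup I}
    (hD : Subgroup.normalizer (Subgroup.zpowers q : Set I) ≤ D) (hrD : r ∈ D) : D = ⊤ := by
  haveI := Fact.mk Nat.prime_five
  have h20 := twenty_le h hq
  have hqN : q ∈ Subgroup.normalizer (Subgroup.zpowers q : Set I) :=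
    Subgroup.le_normalizer (Subgroup.mem_zpowers q)
  have hdvd := Subgroup.card_subgroup_dvd_card D
  rw [h] at hdvd
  have hd5 : 5 ^ (Nat.card ↥D).factorization 5 = 5 := by
    have h5 : 5 ∣ Nat.card ↥D := hq ▸ (Subgroup.orderOf_mk q (hD hqN) ▸ orderOf_dvd_natCard _)
    have hle : (Nat.card ↥D).factorization 5 ≤ (120 : ℕ).factorization 5 :=
      Nat.factorization_le_iff_dvd Nat.card_pos.ne' (by norm_num) |>.mpr hdvd 5
    have h120 : (120 : ℕ).factorization 5 = 1 := by decide +kernel
    have hpos := Nat.Prime.factorization_pos_of_dvd Nat.prime_five Nat.card_pos.ne' h5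
    rw [show (Nat.card ↥D).factorization 5 = 1 by omega, pow_one]
  let P : Sylow 5 ↥D := Sylow.ofCard (Subgroup.zpowers (⟨q, hD hqN⟩ : ↥D))
    (by rw [hd5, Nat.card_zpowers, Subgroup.orderOf_mk, hq])
  let R : Sylow 5 ↥D := Sylow.ofCard (Subgroup.zpowers (⟨r, hrD⟩ : ↥D))
    (by rw [hd5, Nat.card_zpowers, Subgroup.orderOf_mk, hr])
  have hne' : P ≠ R := fun e => hne <| by
    have : (⟨r, hrD⟩ : ↥D) ∈ (P : Subgroup ↥D) := e ▸ Subgroup.mem_zpowers _
    obtain ⟨i, hi⟩ := this
    exact ⟨i, congrArg Subtype.val hi⟩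
  have h6 : 6 ≤ Nat.card (Sylow 5 ↥D) := by
    have h2 : 1 < Nat.card (Sylow 5 ↥D) := by
      haveI : Nontrivial (Sylow 5 ↥D) := ⟨P, R, hne'⟩
      exact Finite.one_lt_card
    have h1 := card_sylow_modEq_one 5 ↥D
    unfold Nat.ModEq at h1
    omega
  rw [Sylow.card_eq_index_normalizer P] at h6
  have hN : (Subgroup.normalizer (Subgroup.zpowers q : Set I)).subgroupOf D ≤
      Subgroup.normalizer ((P : Subgroup ↥D) : Set ↥D) := by
    intro x hx
    rw [Subgroup.mem_subgroupOf, Subgroup.mem_normalizer_iff] at hx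
    refine Subgroup.mem_normalizer_iff.mpr fun y => ?_
    have key : ∀ w : ↥D, w ∈ (P : Subgroup ↥D) ↔ (w : I) ∈ Subgroup.zpowers q := fun w =>
      ⟨fun ⟨i, hi⟩ => ⟨i, congrArg Subtype.val hi⟩, fun ⟨i, hi⟩ => ⟨i, Subtype.ext hi⟩⟩
    rw [key, key]
    exact hx y
  have hc := Subgroup.card_le_of_le hN
  rw [Nat.card_congr (Subgroup.subgroupOfEquivOfLe hD).toEquiv] at hc
  have hm := Subgroup.card_mul_index (Subgroup.normalizer ((P : Subgroup ↥D) : Set ↥D))
  replace h6 : 6 ≤ (Subgroup.normalizer ((P : Subgroup ↥D) : Set ↥D)).index := h6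
  exact Subgroup.eq_top_of_le_card _ (by rw [h]; nlinarith)

end Cfsg.Agent.Lib.J4Line.SymFive
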