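import Cfsg.Agent.Lib.J4Line.Five
import Cfsg.Agent.Lib.J4Line.SymFive

/-!
# The elements of order seven at a line
-/

set_option autoImplicit false
set_option linter.unusedSectionVars false
set_option linter.unusedVariables false
set_option linter.style.haveILetI false

namespace Cfsg.Agent.Lib.J4Line

open Cfsg.Agent.Lib.J4Local Cfsg.Agent.Lib.LargeExtraspecial.Basic
open scoped Pointwise

variable {G : Type*} [Group G] [Finite G] {X : Subgroup G} {z : G}

/-- What an element of order seven in the normaliser of the line gives. -/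
structure SevenData (X : Subgroup G) (s : G) (I : Subgroup G) : Prop where
  order : orderOf s = 7
  mem : s ∈ Subgroup.normalizer (X : Set G)
  not_mem : s ∉ Subgroup.centralizer (X : Set G)
  not_dvd : ¬ 49 ∣ Nat.card G
  product : Cfsg.IsInternalDirectProduct (Subgroup.zpowers s) I (cz s)
  iso : Nonempty (↥I ≃* Equiv.Perm (Fin 5))
  le : I ≤ Subgroup.centralizer (X : Set G)
  card_norm : Nat.card ↥(Subgroup.normalizer (Subgroup.zpowers s : Set G)) = 2520

theorem product_map {A B C : Subgroup G} (h : Cfsg.IsInternalDirectProduct A B C) (g : G) :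
    Cfsg.IsInternalDirectProduct (A.map (MulAut.conj g).toMonoidHom) (B.map (MulAut.conj g).toMonoidHom)
      (C.map (MulAut.conj g).toMonoidHom) := by
  obtain ⟨h1, h2, h3, h4, h5⟩ := h
  refine ⟨Subgroup.map_mono h1, Subgroup.map_mono h2, ?_, ?_, by rw [← Subgroup.map_sup, h5]⟩
  · rintro _ ⟨a, ha, rfl⟩ _ ⟨b, hb, rfl⟩
    rw [← map_mul, h3 a ha b hb, map_mul]
  · rw [← Subgroup.map_inf _ _ _ (MulAut.conj g).injective, h4, Subgroup.map_bot]

theorem card_normalizer_conj (g : G) (P : Subgroup G) :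
    Nat.card ↥(Subgroup.normalizer ((P.map (MulAut.conj g).toMonoidHom : Subgroup G) : Set G)) =
      Nat.card ↥(Subgroup.normalizer (P : Set G)) := by
  have h : ∀ x, x ∈ P.map (MulAut.conj g).toMonoidHom ↔ g⁻¹ * x * g ∈ P := fun x =>
    ⟨by rintro ⟨y, hy, rfl⟩; simpa [mul_assoc] using hy, fun hx => ⟨_, hx, by simp [mul_assoc]⟩⟩
  refine Nat.card_congr
    { toFun := fun x => ⟨g⁻¹ * x * g, Subgroup.mem_normalizer_iff.mpr fun y => ?_⟩
      invFun := fun x => ⟨g * x * g⁻¹, Subgroup.mem_normalizer_iff.mpr fun y => ?_⟩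
      left_inv := fun x => Subtype.ext (by dsimp; group)
      right_inv := fun x => Subtype.ext (by dsimp; group) }
  · have := Subgroup.mem_normalizer_iff.mp x.2 (g * y * g⁻¹)
    rw [h, h] at this
    simpa [mul_assoc] using this
  · have := Subgroup.mem_normalizer_iff.mp x.2 (g⁻¹ * y * g)
    rw [h, h]
    simpa [mul_assoc] using this

/-- A permutation of order dividing seven fixes each point of an invariant set with at most six points. -/
theorem fixed_of_small {T : Set G} {s : G} (hs : s ^ 7 = 1) (hT : ∀ x ∈ T, s * x * s⁻¹ ∈ T)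
    (hc : T.ncard ≤ 6) {x : G} (hx : x ∈ T) : Commute s x := by
  set f : G → G := fun y => s * y * s⁻¹
  have hit : ∀ n : ℕ, f^[n] x = s ^ n * x * (s ^ n)⁻¹ := by
    intro n
    induction n with
    | zero => simp
    | succ n ih => rw [Function.iterate_succ_apply', ih]; simp only [f]; rw [pow_succ']; group
  have h7 : Function.IsPeriodicPt f 7 x := by
    show f^[7] x = x
    rw [hit, hs]; simp
  have hdvd := h7.minimalPeriod_dvd
  rcases (Nat.dvd_prime (by norm_num)).mp hdvd with h | h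
  · have := Function.minimalPeriod_eq_one_iff_isFixedPt.mp h
    exact mul_inv_eq_iff_eq_mul.mp this
  · exfalso
    have hinj : Set.InjOn (fun n => f^[n] x) (Set.Iio 7) := h ▸ Function.iterate_injOn_Iio_minimalPeriod
    have hsub : (fun n => f^[n] x) '' Set.Iio 7 ⊆ T := by
      rintro _ ⟨n, -, rfl⟩
      show f^[n] x ∈ T
      induction n with
      | zero => exact hx
      | succ n ih => rw [Function.iterate_succ_apply']; exact hT _ ih
    have := (Set.ncard_le_ncard hsub (Set.toFinite _)).trans hc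
    rw [Set.InjOn.ncard_image hinj, ← Finset.coe_Iio, Set.ncard_coe_finset, Nat.card_Iio] at this
    omega

theorem IsLam.exists_seven (h : IsLam X) (F : AutFacts) (R : Rows z) (hz : z ∈ X) (hz1 : z ≠ 1) :
    ∃ s I, SevenData X s I := by
  haveI := Fact.mk Nat.prime_five
  haveI := Fact.mk (show Nat.Prime 7 by norm_num)
  obtain ⟨q₀, D⟩ := h.exists_five F R hz hz1
  obtain ⟨p, S, hS⟩ := h.base z hz hz1
  set C := Subgroup.centralizer (X : Set G) with hC
  set N := Subgroup.normalizer (X : Set G)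
  have hCc := h.card_centralizer F R hz hz1
  have hNc := h.card_normalizer F
  rw [hCc] at hNc
  obtain ⟨⟨s, hsN⟩, hso⟩ := exists_prime_orderOf_dvd_card' (G := ↥N) 7 (by rw [hNc]; norm_num)
  rw [Subgroup.orderOf_mk] at hso
  have hs7 : s ^ 7 = 1 := hso ▸ pow_orderOf_eq_one s
  have hsC : s ∉ C := fun hc => by
    have := Subgroup.orderOf_mk s hc ▸ orderOf_dvd_natCard (⟨s, hc⟩ : ↥C)
    rw [hso, hCc] at this
    norm_num at this
  -- transport of the 7-local data
  obtain ⟨⟨s₀, hs₀⟩, hs₀o⟩ := exists_prime_orderOf_dvd_card' (G := ↥(cz z)) 7 (by rw [S.card_cz F]; norm_num)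
  rw [Subgroup.orderOf_mk] at hs₀o
  obtain ⟨h49, ⟨I₀, hI₀, ⟨e₀⟩⟩, -, hN₀⟩ := R.seven (Subgroup.zpowers s₀)
    (by rw [Nat.card_zpowers, hs₀o]) (Subgroup.zpowers_le.mpr hs₀)
  obtain ⟨g, -, hg⟩ := conj_prime (M := (⊤ : Subgroup G)) (p := 7)
    (by rw [Subgroup.card_top]; exact h49) (Subgroup.mem_top s₀) (Subgroup.mem_top s) hs₀o hso
  have hmap : (Subgroup.zpowers s₀).map (MulAut.conj g).toMonoidHom = Subgroup.zpowers s := by
    rw [MonoidHom.map_zpowers]
    exact zpowers_conj_eq hs₀o hso hg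
  have hcmap : (cz s₀).map (MulAut.conj g).toMonoidHom = cz s := by
    have hcs : cz s = cz (g * s₀ * g⁻¹) := by
      rw [← cent_zpowers s, ← zpowers_conj_eq hs₀o hso hg, cent_zpowers]
    rw [hcs]
    ext x
    constructor
    · rintro ⟨y, hy, rfl⟩
      exact mem_cz.mpr ((mem_cz.mp hy).map (MulAut.conj g))
    · intro hx
      refine ⟨g⁻¹ * x * g, mem_cz.mpr ?_, by simp [mul_assoc]⟩
      simpa [mul_assoc] using (mem_cz.mp hx).map (MulAut.conj g⁻¹)
  set I := I₀.map (MulAut.conj g).toMonoidHom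
  have hprod : Cfsg.IsInternalDirectProduct (Subgroup.zpowers s) I (cz s) := by
    have := product_map hI₀ g
    rwa [cent_zpowers, hmap, hcmap] at this
  have eI : ↥I ≃* Equiv.Perm (Fin 5) := (Subgroup.equivMapOfInjective I₀ _ (MulAut.conj g).injective).symm.trans e₀
  have hNs : Nat.card ↥(Subgroup.normalizer (Subgroup.zpowers s : Set G)) = 2520 := by
    rw [← hmap, card_normalizer_conj, hN₀]
    norm_num
  -- the action on the Sylow 5-subgroups of the centraliser
  have hsCN : Subgroup.zpowers s ≤ Subgroup.normalizer (C : Set G) :=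
    Subgroup.zpowers_le.mpr (IsLam.mem_normalizer_of_forall fun x hx => by
      refine Subgroup.mem_centralizer_iff.mpr fun y hy => ?_
      have hy' : s⁻¹ * y * s ∈ X :=
        (Subgroup.mem_normalizer_iff.mp hsN _).mpr (by simpa [mul_assoc] using hy)
      have hc : Commute (s⁻¹ * y * s) x := Subgroup.mem_centralizer_iff.mp hx _ hy'
      simpa [mul_assoc] using (hc.map (MulAut.conj s)).eq)
  letI : MulDistribMulAction ↥(Subgroup.zpowers s) ↥C :=
    MulDistribMulAction.compHom ↥C (C.normalizerMonoidHom.comp (Subgroup.inclusion hsCN))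
  have hqo : orderOf (⟨q₀, D.mem⟩ : ↥C) = 5 := (Subgroup.orderOf_mk q₀ D.mem).trans D.order
  have hpg : IsPGroup 7 ↥(Subgroup.zpowers s) :=
    IsPGroup.of_card (n := 1) (by rw [Nat.card_zpowers, hso, pow_one])
  have hf : (Nat.card ↥C).factorization 5 = 1 := by
    have h1 := Nat.prime_five.factorization_pos_of_dvd Nat.card_pos.ne' (hqo ▸ orderOf_dvd_natCard _)
    have h2 : ¬ 2 ≤ (Nat.card ↥C).factorization 5 := fun h2 => by
      have := (Nat.prime_five.pow_dvd_iff_le_factorization Nat.card_pos.ne').mpr h2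
      rw [hCc] at this
      norm_num at this
    omega
  let P₀ : Sylow 5 ↥C := Sylow.ofCard (Subgroup.zpowers (⟨q₀, D.mem⟩ : ↥C))
    (by rw [hf, pow_one, Nat.card_zpowers, hqo])
  have hn : Nat.card (Sylow 5 ↥C) = 24576 := by
    rw [Sylow.card_eq_index_normalizer P₀]
    have hm := Subgroup.card_mul_index (Subgroup.normalizer ((P₀ : Subgroup ↥C) : Set ↥C))
    have hP : Nat.card ↥(Subgroup.normalizer ((P₀ : Subgroup ↥C) : Set ↥C)) = 160 := by
      rw [← D.card_norm, show (P₀ : Subgroup ↥C) = Subgroup.zpowers (⟨q₀, D.mem⟩ : ↥C) from rfl]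
      refine Nat.card_congr
        { toFun := fun x => ⟨x.1.1, x.1.2, ?_⟩
          invFun := fun x => ⟨⟨x.1, x.2.1⟩, ?_⟩
          left_inv := fun x => rfl
          right_inv := fun x => rfl }
      · obtain ⟨i, hi⟩ := (Subgroup.mem_normalizer_iff.mp x.2 _).mp (Subgroup.mem_zpowers _)
        exact mem_normalizer_zpowers D.order ⟨i, congrArg Subtype.val hi⟩
      · obtain ⟨i, hi⟩ := (Subgroup.mem_normalizer_iff.mp x.2.2 _).mp (Subgroup.mem_zpowers q₀)
        exact mem_normalizer_zpowers hqo ⟨i, Subtype.ext hi⟩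
    rw [hP, hCc] at hm
    show (Subgroup.normalizer ((P₀ : Subgroup ↥C) : Set ↥C)).index = 24576
    omega
  have hmod := hpg.card_modEq_card_fixedPoints (Sylow 5 ↥C)
  rw [hn] at hmod
  haveI : Nontrivial ↑(MulAction.fixedPoints ↥(Subgroup.zpowers s) (Sylow 5 ↥C)) := by
    rw [← Finite.one_lt_card_iff_nontrivial]
    unfold Nat.ModEq at hmod
    omega
  obtain ⟨⟨P1, hP1⟩, ⟨P2, hP2⟩, hne⟩ :=
    exists_pair_ne ↑(MulAction.fixedPoints ↥(Subgroup.zpowers s) (Sylow 5 ↥C))
  have hget : ∀ P : Sylow 5 ↥C, P ∈ MulAction.fixedPoints ↥(Subgroup.zpowers s) (Sylow 5 ↥C) →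
      ∃ q : ↥C, orderOf q = 5 ∧ (P : Subgroup ↥C) = Subgroup.zpowers q ∧ Commute s (q : G) := by
    intro P hP
    have hc5 : Nat.card ↥(P : Subgroup ↥C) = 5 := by
      rw [P.card_eq_multiplicity, hf, pow_one]
    obtain ⟨⟨q, hqP⟩, hq⟩ := exists_prime_orderOf_dvd_card' (G := ↥(P : Subgroup ↥C)) 5 (by rw [hc5])
    rw [Subgroup.orderOf_mk] at hq
    have hPq : (P : Subgroup ↥C) = Subgroup.zpowers q :=
      (Subgroup.eq_of_le_of_card_ge (Subgroup.zpowers_le.mpr hqP) (by rw [hc5, Nat.card_zpowers, hq])).symm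
    refine ⟨q, hq, hPq, ?_⟩
    have hfix : (⟨s, Subgroup.mem_zpowers s⟩ : ↥(Subgroup.zpowers s)) • P = P := hP _
    have hmem : (⟨s, Subgroup.mem_zpowers s⟩ : ↥(Subgroup.zpowers s)) • q ∈ (P : Subgroup ↥C) := by
      rw [← hfix, Sylow.pointwise_smul_def]
      exact Subgroup.smul_mem_pointwise_smul _ _ _ hqP
    rw [hPq] at hmem
    obtain ⟨i, hi⟩ := hmem
    have hqo' : orderOf (q : G) = 5 := (Subgroup.orderOf_coe q).trans hq
    have hn' : s ∈ Subgroup.normalizer (Subgroup.zpowers (q : G) : Set G) :=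
      mem_normalizer_zpowers hqo' ⟨i, congrArg Subtype.val hi⟩
    have h8 := (commute_pow_four hqo' hn').pow_left 2
    rwa [← pow_mul, show (4 * 2 : ℕ) = 7 + 1 from rfl, pow_succ, hs7, one_mul] at h8
  obtain ⟨q1, hq1, hPq1, hc1⟩ := hget P1 hP1
  obtain ⟨q2, hq2, hPq2, hc2⟩ := hget P2 hP2
  have hq1o : orderOf (q1 : G) = 5 := (Subgroup.orderOf_coe q1).trans hq1
  have hq2o : orderOf (q2 : G) = 5 := (Subgroup.orderOf_coe q2).trans hq2
  have hcard7 : (Nat.card ↥(Subgroup.zpowers s)).Coprime 5 := by rw [Nat.card_zpowers, hso]; decide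
  have hI1 : (q1 : G) ∈ I := mem_right_of_pow hprod hcard7 (mem_cz.mpr hc1.symm)
    (hq1o ▸ pow_orderOf_eq_one _)
  have hI2 : (q2 : G) ∈ I := mem_right_of_pow hprod hcard7 (mem_cz.mpr hc2.symm)
    (hq2o ▸ pow_orderOf_eq_one _)
  have hIs : ∀ i ∈ I, Commute s i := fun i hi => (mem_cz.mp (hprod.2.1 hi)).symm
  have hI120 : Nat.card ↥I = 120 := SymFive.card_eq eI
  -- the normaliser of the first group
  have hN1 : Subgroup.normalizer (Subgroup.zpowers (q1 : G) : Set G) ≤ N := by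
    obtain ⟨c, hc, hcq⟩ := conj_prime (M := C) (p := 5)
      (by rw [hCc]; norm_num) D.mem q1.2 D.order hq1o
    intro x hx
    have hx' : c⁻¹ * x * c ∈ Subgroup.normalizer (Subgroup.zpowers q₀ : Set G) := by
      refine mem_normalizer_zpowers D.order ?_
      have h1 := (Subgroup.mem_normalizer_iff.mp hx _).mp hcq
      rw [← zpowers_conj_eq D.order hq1o hcq] at h1
      obtain ⟨i, hi⟩ := h1
      refine ⟨i, ?_⟩
      have hi' : c * q₀ ^ i * c⁻¹ = x * (c * q₀ * c⁻¹) * x⁻¹ := by rw [← conj_zpow]; exact hi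
      show q₀ ^ i = _
      rw [show q₀ ^ i = c⁻¹ * (c * q₀ ^ i * c⁻¹) * c by group, hi']
      group
    have := D.norm_le hx'
    have hcN : c ∈ N := Subgroup.centralizer_le_normalizer _ hc
    simpa [mul_assoc] using mul_mem (mul_mem hcN this) (inv_mem hcN)
  have htop : N.subgroupOf I = ⊤ := by
    refine SymFive.eq_top hI120 (q := ⟨_, hI1⟩) (r := ⟨_, hI2⟩)
      (by rw [Subgroup.orderOf_mk, hq1o]) (by rw [Subgroup.orderOf_mk, hq2o]) ?_ ?_ ?_
    · rintro ⟨i, hi⟩
      refine hne (Subtype.ext (Sylow.ext ?_))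
      show (P1 : Subgroup ↥C) = (P2 : Subgroup ↥C)
      have hmem : q2 ∈ Subgroup.zpowers q1 := ⟨i, Subtype.ext (congrArg Subtype.val hi :)⟩
      rw [hPq1, hPq2]
      exact (Subgroup.eq_of_le_of_card_ge (Subgroup.zpowers_le.mpr hmem)
        (by rw [Nat.card_zpowers, Nat.card_zpowers, hq1, hq2])).symm
    · intro x hx
      refine Subgroup.mem_subgroupOf.mpr (hN1 (mem_normalizer_zpowers hq1o ?_))
      obtain ⟨i, hi⟩ := (Subgroup.mem_normalizer_iff.mp hx _).mp (Subgroup.mem_zpowers _)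
      exact ⟨i, congrArg Subtype.val hi⟩
    · exact Subgroup.mem_subgroupOf.mpr (Subgroup.centralizer_le_normalizer _ q2.2)
  have hIN : I ≤ N := Subgroup.subgroupOf_eq_top.mp htop
  haveI hKn : (C.subgroupOf I).Normal := ⟨fun n hn i => by
    rw [Subgroup.mem_subgroupOf] at hn ⊢
    refine Subgroup.mem_centralizer_iff.mpr fun y hy => ?_
    have hy' : (i : G)⁻¹ * y * i ∈ X :=
      (Subgroup.mem_normalizer_iff.mp (hIN i.2) _).mpr (by simpa [mul_assoc] using hy)
    have hc : Commute ((i : G)⁻¹ * y * i) n := Subgroup.mem_centralizer_iff.mp hn _ hy'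
    simpa [mul_assoc] using (hc.map (MulAut.conj (i : G))).eq⟩
  have hK : C.subgroupOf I ≠ ⊥ := fun e => by
    have hm : (⟨(q1 : G), hI1⟩ : ↥I) ∈ C.subgroupOf I := q1.2
    rw [e, Subgroup.mem_bot] at hm
    have hone : (q1 : G) = 1 := congrArg Subtype.val hm
    rw [hone, orderOf_one] at hq1o
    norm_num at hq1o
  refine ⟨s, I, hso, hsN, hsC, h49, hprod, ⟨eI⟩, fun i hi => ?_, hNs⟩
  -- the involution induced by `i` commutes with `s`
  have hsq : i * i ∈ C := SymFive.sq_mem eI (C.subgroupOf I) hK ⟨i, hi⟩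
  have his := hIs i hi
  have hiN := hIN hi
  have hi2 : ∀ x ∈ X, i * (i * x * i⁻¹) * i⁻¹ = x := fun x hx => by
    rw [show i * (i * x * i⁻¹) * i⁻¹ = i * i * x * (i * i)⁻¹ by group]
    exact mul_inv_eq_iff_eq_mul.mpr (Subgroup.mem_centralizer_iff.mp hsq x hx).symm
  obtain ⟨x, hx, hx1, -⟩ := h.exists_other 1
  have hix : i * x * i⁻¹ ∈ X := (Subgroup.mem_normalizer_iff.mp hiN x).mp hx
  obtain ⟨w, hw, hw1, hwi⟩ : ∃ w ∈ X, w ≠ 1 ∧ Commute i w := by
    by_cases he : i * x * i⁻¹ = x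
    · exact ⟨x, hx, hx1, mul_inv_eq_iff_eq_mul.mp he⟩
    · refine ⟨x * (i * x * i⁻¹), mul_mem hx hix, h.mul_ne_one hx hix he, mul_inv_eq_iff_eq_mul.mp ?_⟩
      rw [show i * (x * (i * x * i⁻¹)) * i⁻¹ = i * x * i⁻¹ * (i * (i * x * i⁻¹) * i⁻¹) by group, hi2 x hx]
      exact (h.comm hix hx).eq
  set W := X ⊓ cz i
  have hWs : ∀ y ∈ W, s * y * s⁻¹ ∈ W := fun y hy => by
    refine ⟨(Subgroup.mem_normalizer_iff.mp hsN y).mp hy.1, mem_cz.mpr ?_⟩
    have := (mem_cz.mp hy.2).map (MulAut.conj s)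
    simpa [mul_inv_eq_iff_eq_mul.mpr his.eq] using this
  by_cases hW : W = X
  · exact Subgroup.mem_centralizer_iff.mpr fun y hy => (mem_cz.mp (hW.ge hy).2).eq
  exfalso
  have hWc : Nat.card ↥W ≤ 4 := by
    have hdvd : Nat.card ↥W ∣ 2 ^ 3 :=
      (Subgroup.card_dvd_of_le (inf_le_left : W ≤ X)).trans (by rw [h.card]; norm_num)
    obtain ⟨k, hk, hk'⟩ := (Nat.dvd_prime_pow Nat.prime_two).mp hdvd
    have hk3 : k ≠ 3 := fun e => hW <| Subgroup.eq_of_le_of_card_ge inf_le_left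
      (show Nat.card ↥X ≤ Nat.card ↥W by rw [h.card, hk', e]; norm_num)
    rw [hk']
    exact (Nat.pow_le_pow_right (by norm_num) (show k ≤ 2 by omega)).trans (by norm_num)
  have hsw : Commute s w := fixed_of_small hs7 hWs
    (show (W : Set G).ncard ≤ 6 from ((Nat.card_coe_set_eq (W : Set G)).symm.le.trans hWc).trans (by norm_num))
    ⟨hw, mem_cz.mpr hwi.symm⟩
  refine hsC (Subgroup.mem_centralizer_iff.mpr fun y hy => ?_)
  by_cases hy' : y = 1 ∨ y = w
  · rcases hy' with rfl | rfl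
    · simp
    · exact hsw.eq.symm
  push Not at hy'
  refine (fixed_of_small hs7 (T := (X : Set G) \ {1, w}) ?_ ?_ ⟨hy, by simp [hy'.1, hy'.2]⟩).eq.symm
  · rintro v ⟨hv, hv'⟩
    refine ⟨(Subgroup.mem_normalizer_iff.mp hsN v).mp hv, fun hv'' => hv' ?_⟩
    rcases hv'' with e | e
    · exact Or.inl (conj_eq_one_iff.mp e)
    · refine Or.inr (mul_left_cancel (a := s) (mul_right_cancel (b := s⁻¹) ?_))
      rw [Set.mem_singleton_iff.mp e, hsw.eq, mul_inv_cancel_right]
  · rw [Set.ncard_sdiff (by rintro v (rfl | rfl); exacts [one_mem _, hw]) (Set.toFinite _),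
      ← Nat.card_coe_set_eq, SetLike.coe_sort_coe, h.card, Set.ncard_pair (Ne.symm hw1)]

end Cfsg.Agent.Lib.J4Line
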