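import Cfsg.Agent.Lib.J4Line.Lifts
import Cfsg.Agent.Lib.Cores.Gaschutz
import Cfsg.Agent.Lib.J4Local.RowsG

/-!
# A subgroup isomorphic to `SL(3,2)` in the normaliser of the line
-/

set_option autoImplicit false
set_option linter.unusedSectionVars false
set_option linter.unusedVariables false
set_option linter.style.haveILetI false

namespace Cfsg.Agent.Lib.J4Line

open Cfsg.Agent.Lib.J4Local Cfsg.Agent.Lib.LargeExtraspecial.Basic
open Cfsg.Agent.Lib.FischerLarge99 (SL32 card_SL32 simple_SL32)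
open scoped Pointwise

variable {G : Type*} [Group G] [Finite G] {X : Subgroup G} {z p : G} {a b c s : G}

theorem perm_three_cent : ∀ x : Equiv.Perm (Fin 5), x * x * x = 1 → x ≠ 1 →
    (Finset.univ.filter fun y => y * x = x * y).card = 6 ∧
      ∀ y : Equiv.Perm (Fin 5), y * x = x * y → y * y * y = 1 → y = 1 ∨ y = x ∨ y = x * x := by
  decide +kernel

/-- The centraliser of `s` in `N(X)` maps onto `SL(3,2)`. -/
theorem IsLam.cent_three_surjective (h : IsLam X) (F : AutFacts)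
    (hCc : Nat.card ↥(Subgroup.centralizer (X : Set G)) = 2 ^ 15 * 120)
    (hs : s ∈ Subgroup.centralizer (X : Set G)) (hs3 : orderOf s = 3) :
    ∀ {φ : ↥(Subgroup.normalizer (X : Set G)) →* SL32}, Function.Surjective φ →
    (∀ l, φ l = 1 ↔ (l : G) ∈ Subgroup.centralizer (X : Set G)) →
    ((cz s).subgroupOf (Subgroup.normalizer (X : Set G))).map φ = ⊤ := by
  haveI := Fact.mk Nat.prime_three
  haveI := simple_SL32
  set N := Subgroup.normalizer (X : Set G)
  set C := Subgroup.centralizer (X : Set G)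
  intro φ hφs hφ
  have hCN : C ≤ N := Subgroup.centralizer_le_normalizer _
  have h9 : ¬ 3 ^ 2 ∣ Nat.card ↥C := by rw [hCc]; norm_num
  have hs3' : s ^ 3 = 1 := hs3 ▸ pow_orderOf_eq_one s
  have hs1 : s ≠ 1 := fun e => by rw [e, orderOf_one] at hs3; norm_num at hs3
  have hlift : ∀ y : SL32, ∃ g : ↥N, φ g = y ∧
      ((g : G) * s * (g : G)⁻¹ = s ∨ (g : G) * s * (g : G)⁻¹ = s⁻¹) := by
    intro y
    obtain ⟨g, rfl⟩ := hφs y
    have hgs : (g : G) * s * (g : G)⁻¹ ∈ C := by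
      refine Subgroup.mem_centralizer_iff.mpr fun x hx => ?_
      have hx' : (g : G)⁻¹ * x * g ∈ X :=
        (Subgroup.mem_normalizer_iff.mp g.2 _).mpr (by simpa [mul_assoc] using hx)
      have hc : Commute ((g : G)⁻¹ * x * g) s := Subgroup.mem_centralizer_iff.mp hs _ hx'
      simpa [mul_assoc] using (hc.map (MulAut.conj (g : G))).eq
    obtain ⟨c, hc, i, hi⟩ := conj_prime h9 hgs hs
      ((MulEquiv.orderOf_eq (MulAut.conj (g : G)) s).trans hs3) hs3
    refine ⟨⟨c, hCN hc⟩ * g, by rw [map_mul, (hφ ⟨c, hCN hc⟩).mpr hc, one_mul], ?_⟩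
    have hval : ((⟨c, hCN hc⟩ * g : ↥N) : G) * s * ((⟨c, hCN hc⟩ * g : ↥N) : G)⁻¹ = s ^ i := by
      have hi' : s ^ i = c * ((g : G) * s * (g : G)⁻¹) * c⁻¹ := hi
      rw [hi', Subgroup.coe_mul]
      group
    have h3 : s ^ (3 : ℤ) = 1 := by rw [show (3 : ℤ) = ((3 : ℕ) : ℤ) from rfl, zpow_natCast, hs3']
    have hk : s ^ i = s ^ (i % 3) := by
      conv_lhs => rw [← Int.emod_add_mul_ediv i 3, zpow_add, zpow_mul, h3, one_zpow, mul_one]
    rw [hk] at hval
    rcases (show i % 3 = 0 ∨ i % 3 = 1 ∨ i % 3 = 2 by omega) with e | e | e <;> rw [e] at hval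
    · exact absurd (conj_eq_one_iff.mp (hval.trans (zpow_zero s))) hs1
    · exact Or.inl (hval.trans (zpow_one s))
    · refine Or.inr (hval.trans ?_)
      rw [show (2 : ℤ) = 3 + (-1) from rfl, zpow_add, h3, one_mul, zpow_neg_one]
  set CN : Subgroup ↥N := (cz s).subgroupOf N
  have hsq : ∀ y : SL32, y * y ∈ CN.map φ := by
    intro y
    obtain ⟨g, rfl, hg⟩ := hlift y
    refine ⟨g * g, mem_cz.mpr (mul_inv_eq_iff_eq_mul.mp ?_), map_mul φ g g⟩
    show (g : G) * g * s * ((g : G) * g)⁻¹ = s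
    rw [show (g : G) * g * s * ((g : G) * g)⁻¹ = g * (g * s * (g : G)⁻¹) * (g : G)⁻¹ by group]
    rcases hg with e | e <;> rw [e]
    · exact e
    · rw [← conj_inv, e, inv_inv]
  have hn : (CN.map φ).Normal := ⟨by
    rintro _ ⟨d, hd, rfl⟩ y
    obtain ⟨g, rfl, hg⟩ := hlift y
    refine ⟨g * d * g⁻¹, mem_cz.mpr ?_, by simp⟩
    have hd' : Commute (d : G) s := mem_cz.mp hd
    have := hd'.map (MulAut.conj (g : G))
    rcases hg with e | e
    · simpa [MulAut.conj_apply, e] using this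
    · have h' : Commute ((g : G) * d * (g : G)⁻¹) s⁻¹ := by simpa [MulAut.conj_apply, e] using this
      simpa using h'.inv_right⟩
  refine hn.eq_bot_or_eq_top.resolve_left fun hbot => ?_
  obtain ⟨y, hy⟩ := exists_prime_orderOf_dvd_card' (G := SL32) 3 (by rw [card_SL32]; norm_num)
  have := hsq y
  rw [hbot, Subgroup.mem_bot, ← pow_two] at this
  have := orderOf_dvd_of_pow_eq_one this
  rw [hy] at this
  norm_num at this

/-- The fixed points of `s` in the large group form the line, and `C(X) ∩ C(s)` has order 48. -/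
theorem IsLam.cent_three_data [IsSimpleGroup G] (hG : ¬ IsMulCommutative G) (S : Setting z p)
    (h : IsLam X) (F : AutFacts) {t : G} {I : Subgroup G} (D : SevenData X t I) (hp : PairGen X)
    (hCc : Nat.card ↥(Subgroup.centralizer (X : Set G)) = 2 ^ 15 * 120)
    (hsI : s ∈ I) (hs3 : orderOf s = 3) :
    (∀ l ∈ bigL X, Commute l s → l ∈ X) ∧
      Nat.card ↥(Subgroup.centralizer (X : Set G) ⊓ cz s : Subgroup G) = 48 ∧
      (∀ k ∈ Subgroup.centralizer (X : Set G), Commute k s → k ^ 3 = 1 → k ∈ Subgroup.zpowers s) ∧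
      Nat.card ↥(Subgroup.normalizer (X : Set G) ⊓ cz s : Subgroup G) = 8064 := by
  classical
  haveI := Fact.mk (show Nat.Prime 7 by norm_num)
  obtain ⟨eI⟩ := D.iso
  obtain ⟨z', S', hk⟩ := exists_setting_three hG S F hs3
  set C := Subgroup.centralizer (X : Set G)
  set N := Subgroup.normalizer (X : Set G)
  obtain ⟨φ, hφs, hφ⟩ : ∃ φ : ↥N →* SL32, Function.Surjective φ ∧ ∀ l, φ l = 1 ↔ (l : G) ∈ C := h.exists_phi F
  set L := bigL X
  have hCN : C ≤ N := Subgroup.centralizer_le_normalizer _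
  have hNL : Subgroup.normalizer (L : Set G) = N := h.normalizer_bigL F hp
  have hs : s ∈ C := D.le hsI
  have hCL : C ≤ Subgroup.normalizer (L : Set G) := hNL.ge.trans' hCN
  have hIL : I ⊓ L = ⊥ :=
    inf_two_eq_bot eI D.le hCL (IsPGroup.of_card (h.card_bigL F hp))
  have hLC : L ≤ C := bigL_le_centralizer
  have hsplit : ∀ k ∈ C, ∃ i ∈ I, ∃ l ∈ L, k = i * l := by
    have hm := OffenderComp.Aux.card_sup_inf (H := I) (K := L) (D.le.trans hCL)
    rw [hIL, Subgroup.card_bot, mul_one, SymFive.card_eq eI, h.card_bigL F hp] at hm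
    have heq : I ⊔ L = C := Subgroup.eq_of_le_of_card_ge (sup_le D.le hLC)
      (le_of_eq (hCc.trans ((mul_comm _ _).trans hm.symm)))
    intro k hk
    have hk' : k ∈ (I : Set G) * (L : Set G) := by
      rw [← Subgroup.coe_mul_of_left_le_normalizer_right I L (D.le.trans hCL), heq]
      exact hk
    obtain ⟨i, hi, l, hl, rfl⟩ := Set.mem_mul.mp hk'
    exact ⟨i, hi, l, hl, rfl⟩
  have huniq : ∀ {i i' l l' : G}, i ∈ I → i' ∈ I → l ∈ L → l' ∈ L → i * l = i' * l' → i = i' := by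
    intro i i' l l' hi hi' hl hl' e
    have hm : i'⁻¹ * i ∈ I ⊓ L := ⟨I.mul_mem (I.inv_mem hi') hi, by
      rw [show i'⁻¹ * i = i'⁻¹ * (i * l) * l⁻¹ by group, e, inv_mul_cancel_left]
      exact L.mul_mem hl' (L.inv_mem hl)⟩
    rw [hIL, Subgroup.mem_bot] at hm
    exact (inv_mul_eq_one.mp hm).symm
  have hparts : ∀ {i l : G}, i ∈ I → l ∈ L → Commute (i * l) s → Commute i s ∧ Commute l s := by
    intro i l hi hl hc
    have hl' : s⁻¹ * l * s ∈ L :=
      (Subgroup.mem_normalizer_iff.mp (hCL hs) _).mpr (by simpa [mul_assoc] using hl)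
    have e : i * s * (s⁻¹ * l * s) = s * i * l := by
      rw [show i * s * (s⁻¹ * l * s) = i * l * s by group, hc.eq]; group
    have hi' : i * s = s * i := huniq (mul_mem hi hsI) (mul_mem hsI hi) hl' hl e
    refine ⟨hi', ?_⟩
    have := (Commute.inv_left hi' : Commute i⁻¹ s).mul_left hc
    rwa [inv_mul_cancel_left] at this
  -- the centraliser in `I`
  have heI : ∀ {y : G} (hy : y ∈ I), Commute y s ↔ eI ⟨y, hy⟩ * eI ⟨s, hsI⟩ = eI ⟨s, hsI⟩ * eI ⟨y, hy⟩ := by
    intro y hy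
    rw [← map_mul, ← map_mul, eI.injective.eq_iff]
    exact ⟨fun e => Subtype.ext e, fun e => congrArg Subtype.val e⟩
  have hes : eI ⟨s, hsI⟩ * eI ⟨s, hsI⟩ * eI ⟨s, hsI⟩ = 1 ∧ eI ⟨s, hsI⟩ ≠ 1 := by
    have ho : orderOf (eI ⟨s, hsI⟩) = 3 := by
      rw [MulEquiv.orderOf_eq, Subgroup.orderOf_mk, hs3]
    refine ⟨?_, fun e => by rw [e, orderOf_one] at ho; norm_num at ho⟩
    rw [mul_assoc, ← pow_three, ← ho, pow_orderOf_eq_one]
  obtain ⟨hP6, hP3⟩ := perm_three_cent _ hes.1 hes.2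
  have hI6 : Nat.card ↥(I ⊓ cz s : Subgroup G) = 6 := by
    have hcard : Nat.card {y : Equiv.Perm (Fin 5) // y * eI ⟨s, hsI⟩ = eI ⟨s, hsI⟩ * y} = 6 := by
      rw [Nat.card_eq_fintype_card, Fintype.card_subtype]
      exact hP6
    rw [← hcard]
    exact Nat.card_congr
      { toFun := fun y => ⟨eI ⟨y, y.2.1⟩, (heI y.2.1).mp (mem_cz.mp y.2.2)⟩
        invFun := fun y => ⟨(eI.symm y.1 : G), (eI.symm y.1).2, mem_cz.mpr ((heI (eI.symm y.1).2).mpr
          (by simpa using y.2))⟩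
        left_inv := fun y => Subtype.ext (by simp)
        right_inv := fun y => Subtype.ext (by simp) }
  -- the product decomposition
  set LS := L ⊓ cz s
  have hK : Nat.card ↥(C ⊓ cz s : Subgroup G) = 6 * Nat.card ↥LS := by
    rw [← hI6, ← Nat.card_prod]
    refine (Nat.card_congr (Equiv.ofBijective (fun w : ↥(I ⊓ cz s : Subgroup G) × ↥LS =>
      (⟨(w.1 : G) * w.2, mul_mem (D.le w.1.2.1) (hLC w.2.2.1),
        mul_mem w.1.2.2 w.2.2.2⟩ : ↥(C ⊓ cz s : Subgroup G))) ⟨?_, ?_⟩)).symm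
    · rintro ⟨⟨i, hi⟩, ⟨l, hl⟩⟩ ⟨⟨i', hi'⟩, ⟨l', hl'⟩⟩ e
      have e' : i * l = i' * l' := congrArg Subtype.val e
      have ei := huniq hi.1 hi'.1 hl.1 hl'.1 e'
      subst ei
      have el : l = l' := mul_left_cancel e'
      subst el
      rfl
    · rintro ⟨k, hkC, hks⟩
      obtain ⟨i, hi, l, hl, rfl⟩ := hsplit k hkC
      obtain ⟨his, hls⟩ := hparts hi hl (mem_cz.mp hks)
      exact ⟨⟨⟨i, hi, mem_cz.mpr his⟩, ⟨l, hl, mem_cz.mpr hls⟩⟩, rfl⟩
  have hNs : Nat.card ↥(N ⊓ cz s : Subgroup G) = Nat.card ↥(C ⊓ cz s : Subgroup G) * 168 := by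
    let ψ : ↥(N ⊓ cz s : Subgroup G) →* SL32 := φ.comp (Subgroup.inclusion inf_le_left)
    have hψ : ψ.range = ⊤ := by
      rw [eq_top_iff]
      intro y _
      obtain ⟨d, hd, rfl⟩ : y ∈ ((cz s).subgroupOf N).map φ :=
        (h.cent_three_surjective F hCc hs hs3 hφs hφ) ▸ Subgroup.mem_top y
      exact ⟨⟨d, d.2, hd⟩, rfl⟩
    have h1 := Subgroup.card_mul_index ψ.ker
    rw [Subgroup.index_ker, hψ, Subgroup.card_top, card_SL32] at h1
    rw [← h1]
    congr 1
    exact Nat.card_congr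
      { toFun := fun x => ⟨x.1.1, ⟨(hφ _).mp x.2, x.1.2.2⟩⟩
        invFun := fun x => ⟨⟨x.1, hCN x.2.1, x.2.2⟩, (hφ _).mpr x.2.1⟩
        left_inv := fun x => rfl
        right_inv := fun x => rfl }
  have hXle : X ≤ LS := fun x hx =>
    ⟨h.le_bigL hx, mem_cz.mpr (Subgroup.mem_centralizer_iff.mp hs x hx)⟩
  have hLS16 : Nat.card ↥LS ∣ 16 := by
    have hle : N ⊓ cz s ≤ kSub z' s := fun x hx => hk x (mem_cz.mp hx.2)
    have hdvd := Subgroup.card_dvd_of_le hle
    rw [hNs, hK, S'.card_kSub F, show 6 * Nat.card ↥LS * 168 = 1008 * Nat.card ↥LS by ring,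
      show 6 * 443520 = 1008 * 2640 by norm_num] at hdvd
    have h1 : Nat.card ↥LS ∣ 2 ^ 15 := h.card_bigL F hp ▸ Subgroup.card_dvd_of_le inf_le_left
    have h2 := Nat.dvd_gcd h1 (Nat.dvd_of_mul_dvd_mul_left (by norm_num) hdvd)
    rwa [show Nat.gcd (2 ^ 15) 2640 = 16 from rfl] at h2
  have hLS : LS = X := by
    refine (Subgroup.eq_of_le_of_card_ge hXle ?_).symm
    rw [h.card]
    by_contra hgt
    push Not at hgt
    have h16 : Nat.card ↥LS = 16 := by
      have := Nat.le_of_dvd (by norm_num) hLS16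
      obtain ⟨m, hm⟩ := h.card ▸ Subgroup.card_dvd_of_le hXle
      omega
    set T₀ : Set G := (LS : Set G) \ (X : Set G)
    have hcard : T₀.ncard = 8 := by
      rw [Set.ncard_sdiff hXle (Set.toFinite _), ← Nat.card_coe_set_eq, ← Nat.card_coe_set_eq,
        SetLike.coe_sort_coe, SetLike.coe_sort_coe, h.card, h16]
    have hts : Commute t s := (mem_cz.mp (D.product.2.1 hsI)).symm
    have hconj : ∀ {g : G}, g ∈ N → Commute g s → ∀ y ∈ T₀, g * y * g⁻¹ ∈ T₀ := by
      intro g hg hgs y hy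
      refine ⟨⟨(Subgroup.mem_normalizer_iff.mp (hNL.ge hg) y).mp hy.1.1, mem_cz.mpr ?_⟩,
        fun e => hy.2 ((Subgroup.mem_normalizer_iff.mp hg y).mpr e)⟩
      have := (mem_cz.mp hy.1.2).map (MulAut.conj g)
      simpa [MulAut.conj_apply, mul_inv_eq_iff_eq_mul.mpr hgs.eq] using this
    haveI : Fintype T₀ := Fintype.ofFinite _
    have ht7 : t ^ 7 = 1 := D.order ▸ pow_orderOf_eq_one t
    let σ : Equiv.Perm T₀ :=
      { toFun := fun y => ⟨_, hconj D.mem hts y y.2⟩
        invFun := fun y => ⟨_, hconj (inv_mem D.mem) hts.inv_left y y.2⟩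
        left_inv := fun y => Subtype.ext (by simp [mul_assoc])
        right_inv := fun y => Subtype.ext (by simp [mul_assoc]) }
    have hσn : ∀ (n : ℕ) (y : T₀), (((σ ^ n) y : T₀) : G) = t ^ n * y * (t ^ n)⁻¹ := by
      intro n
      induction n with
      | zero => intro y; simp
      | succ n ih =>
        intro y
        rw [pow_succ', Equiv.Perm.mul_apply]
        show t * (((σ ^ n) y : T₀) : G) * t⁻¹ = _
        rw [ih, pow_succ']; group
    obtain ⟨⟨y, hy, hyX⟩, hfix⟩ := Equiv.Perm.exists_fixed_point_of_prime (p := 7) (n := 1) (σ := σ)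
      (by rw [← Nat.card_eq_fintype_card, Nat.card_coe_set_eq, hcard]; norm_num)
      (Equiv.ext fun y => Subtype.ext (by rw [pow_one, hσn, ht7]; simp))
    have hyt : Commute y t :=
      (mul_inv_eq_iff_eq_mul.mp (congrArg Subtype.val hfix : t * y * t⁻¹ = y)).symm
    have hy2 : y ^ 2 ^ 15 = 1 := by
      have := pow_card_eq_one' (x := (⟨y, hy.1⟩ : ↥L))
      rw [h.card_bigL F hp] at this
      exact congrArg Subtype.val this
    have hyI : y ∈ I := mem_right_of_pow D.product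
      (by rw [Nat.card_zpowers, D.order]; exact Nat.Coprime.pow_right 15 (by norm_num)) (mem_cz.mpr hyt) hy2
    have hm : y ∈ I ⊓ L := ⟨hyI, hy.1⟩
    rw [hIL, Subgroup.mem_bot] at hm
    exact hyX (hm ▸ one_mem X)
  have h48 : Nat.card ↥(C ⊓ cz s : Subgroup G) = 48 := by rw [hK, hLS, h.card]
  refine ⟨fun l hl hls => hLS.le ⟨hl, mem_cz.mpr hls⟩, h48, ?_, by rw [hNs, h48]⟩
  intro k hkC hks hk3
  obtain ⟨i, hi, l, hl, rfl⟩ := hsplit k hkC
  obtain ⟨his, hls⟩ := hparts hi hl hks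
  have hlX : l ∈ X := hLS.le ⟨hl, mem_cz.mpr hls⟩
  have hil : Commute i l := (Subgroup.mem_centralizer_iff.mp (D.le hi) l hlX).symm
  rw [hil.mul_pow] at hk3
  have hi3 : i ^ 3 = 1 := by
    have := huniq (pow_mem hi 3) (one_mem I) (pow_mem hl 3) (one_mem L) (by rw [hk3, one_mul])
    exact this
  rw [hi3, one_mul, pow_three, h.sq hlX, mul_one] at hk3
  rw [hk3, mul_one]
  have hcase := hP3 (eI ⟨i, hi⟩) ((heI hi).mp his) (by
    rw [← map_mul, ← map_mul, ← map_one eI]
    exact congrArg eI (Subtype.ext (by rw [mul_assoc]; simpa [pow_three] using hi3)))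
  rcases hcase with e | e | e
  · rw [show i = 1 from congrArg Subtype.val (eI.injective (e.trans (map_one eI).symm))]
    exact one_mem _
  · rw [show i = s from congrArg Subtype.val (eI.injective e)]
    exact Subgroup.mem_zpowers s
  · rw [← map_mul] at e
    rw [show i = s * s from congrArg Subtype.val (eI.injective e)]
    exact mul_mem (Subgroup.mem_zpowers s) (Subgroup.mem_zpowers s)

/-- The product of two lifts with non-commuting transvections has order four. -/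
theorem IsLam.exists_dihedral (h : IsLam X) (F : AutFacts) {z' : G} (S' : Setting z' s)
    (hk : ∀ x, Commute x s → x ∈ kSub z' s) (hs : s ∈ Subgroup.centralizer (X : Set G)) (hs3 : orderOf s = 3)
    (hfix : ∀ l ∈ bigL X, Commute l s → l ∈ X) :
    ∃ a b c u v, a ∈ X ∧ a ≠ 1 ∧ b ∈ X ∧ b ≠ 1 ∧ b ≠ a ∧ c ∈ X ∧ c ∉ ({1, a, b, a * b} : Set G) ∧
      IsLift X s a b c u ∧ IsLift X s b c a v ∧ (u * v) ^ 4 = 1 := by
  obtain ⟨a, ha, h1, -⟩ := h.exists_other 1
  obtain ⟨b, hb, hb1, hba⟩ := h.exists_other a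
  obtain ⟨c, hc, hc1, hca, hcb, hcab⟩ := h.exists_third a b
  have hc' : c ∉ ({1, a, b, a * b} : Set G) := by simp [hc1, hca, hcb, hcab]
  have hc'' : c ∉ ({1, b, a, b * a} : Set G) := by
    rw [(h.comm hb ha).eq]; simp [hc1, hca, hcb, hcab]
  have ha' : a ∉ ({1, b, c, b * c} : Set G) := by
    simp only [Set.mem_insert_iff, Set.mem_singleton_iff, not_or]
    refine ⟨h1, Ne.symm hba, Ne.symm hca, fun e => hcab ?_⟩
    rw [e, (h.comm hb hc).eq, mul_assoc, h.sq hb, mul_one]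
  obtain ⟨u, hu⟩ := h.exists_lift F hs hs3 ha h1 hb hb1 hba hc hc'
  obtain ⟨d, hd⟩ := h.exists_lift F hs hs3 hb hb1 ha h1 (Ne.symm hba) hc hc''
  obtain ⟨v, hv⟩ := h.exists_lift F hs hs3 hb hb1 hc hc1 hcb ha ha'
  have hud : Commute u d := h.lifts_commute F S' hk hs hs3 ha h1 hb hb1 hba hc hu hd
  refine ⟨a, b, c, u, v, ha, h1, hb, hb1, hba, hc, hc', hu, hv, ?_⟩
  set g := u * v * u * v with hg
  have hgQ : g ∈ Q b := by
    rw [hg, show u * v * u * v = u * v * u⁻¹ * v by rw [hu.inv]]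
    exact mul_mem (isQ.normal hu.fix hv.core) hv.core
  have hua : u * a * u = a := by have := hu.fix_self; rwa [hu.inv] at this
  have hub : u * b * u = b := by have := hu.fix_other; rwa [hu.inv] at this
  have huc : u * c * u = c * a := by have := hu.moves; rwa [hu.inv] at this
  have hvb : v * b * v = b := by have := hv.fix_self; rwa [hv.inv] at this
  have hvc : v * c * v = c := by have := hv.fix_other; rwa [hv.inv] at this
  have hva : v * a * v = a * b := by have := hv.moves; rwa [hv.inv] at this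
  have hda : d * a * d = a := by have := hd.fix_other; rwa [hd.inv] at this
  have hdb : d * b * d = b := by have := hd.fix_self; rwa [hd.inv] at this
  have hdc : d * c * d = c * b := by have := hd.moves; rwa [hd.inv] at this
  have mu : ∀ x y : G, u * (x * y) * u = u * x * u * (u * y * u) := fun x y => by
    rw [show u * x * u * (u * y * u) = u * x * (u * u) * (y * u) by group, hu.sq]; group
  have mv : ∀ x y : G, v * (x * y) * v = v * x * v * (v * y * v) := fun x y => by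
    rw [show v * x * v * (v * y * v) = v * x * (v * v) * (y * v) by group, hv.sq]; group
  have hginv : g⁻¹ = v * u * v * u := by rw [hg, mul_inv_rev, mul_inv_rev, mul_inv_rev, hu.inv, hv.inv]; group
  have conj_g : ∀ x : G, g * x * g⁻¹ = u * (v * (u * (v * x * v) * u) * v) * u := fun x => by
    rw [hginv, hg]; group
  have ga : g * a * g⁻¹ = a := by
    rw [conj_g, hva, mu a b, hua, hub, mv a b, hva, hvb, mul_assoc a, h.sq hb, mul_one, hua]
  have gb : g * b * g⁻¹ = b := by rw [conj_g, hvb, hub, hvb, hub]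
  have gc : g * c * g⁻¹ = c * b := by
    rw [conj_g, hvc, huc, mv c a, hvc, hva, mu c (a * b), huc, mu a b, hua, hub, ← mul_assoc, mul_assoc c a a,
      h.sq ha, mul_one]
  -- `g d` centralises the line
  have hgd : g * d ∈ X := by
    have hgC : g * d ∈ Subgroup.centralizer (X : Set G) := by
      refine h.mem_centralizer_of_basis ha h1 hb hb1 hba hc hc' ?_ ?_ ?_ <;>
        refine mul_inv_eq_iff_eq_mul.mp ?_
      · rw [show g * d * a * (g * d)⁻¹ = g * (d * a * d⁻¹) * g⁻¹ by group, hd.inv, hda, ga]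
      · rw [show g * d * b * (g * d)⁻¹ = g * (d * b * d⁻¹) * g⁻¹ by group, hd.inv, hdb, gb]
      · rw [show g * d * c * (g * d)⁻¹ = g * (d * c * d⁻¹) * g⁻¹ by group, hd.inv, hdc,
          show g * (c * b) * g⁻¹ = g * c * g⁻¹ * (g * b * g⁻¹) by group, gc, gb, mul_assoc, h.sq hb, mul_one]
    refine hfix _ (ySub_le_bigL hb hb1 ⟨mul_mem hgQ hd.core, hgC⟩) ?_
    exact (((hu.comm.mul_left hv.comm).mul_left hu.comm).mul_left hv.comm).mul_left hd.comm
  set x := g * d with hx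
  have hgx : g = x * d := by rw [hx, mul_assoc, hd.sq, mul_one]
  have hxx : x⁻¹ = x := inv_eq_of_mul_eq_one_right (h.sq hgd)
  have hugu : u * g * u = g⁻¹ := by
    rw [hginv, hg, show u * (u * v * u * v) * u = u * u * v * u * v * u by group, hu.sq, one_mul]
  have hdu : u * d * u = d := by rw [hud.eq, mul_assoc, hu.sq, mul_one]
  have key : u * x * u = d * x * d := by
    have e1 : u * x * u * d = d * x := by
      calc u * x * u * d = u * x * u * (u * d * u) := by rw [hdu]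
        _ = u * g * u := by rw [← mu, ← hgx]
        _ = d * x := by rw [hugu, hgx, mul_inv_rev, hd.inv, hxx]
    calc u * x * u = u * x * u * d * d := by rw [mul_assoc (u * x * u) d d, hd.sq, mul_one]
      _ = d * x * d := by rw [e1]
  have hP : ∀ w ∈ ({1, a, b, a * b} : Set G), u * w * u = w ∧ d * w * d = w := by
    rintro w (rfl | rfl | rfl | rfl)
    · exact ⟨by rw [mul_one]; exact hu.sq, by rw [mul_one]; exact hd.sq⟩
    · exact ⟨hua, hda⟩
    · exact ⟨hub, hdb⟩
    · refine ⟨by rw [mu, hua, hub], ?_⟩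
      rw [show d * (a * b) * d = d * a * d * (d⁻¹ * b * d) by group, hda, hd.inv, hdb]
  have hxP : x ∈ ({1, a, b, a * b} : Set G) := by
    rcases h.eight ha h1 hb hb1 hba hc hc' hgd with hw | hw
    · exact hw
    exfalso
    obtain ⟨huw, hdw⟩ := hP _ hw
    have hxe : x = c * (c * x) := by rw [← mul_assoc, h.sq hc, one_mul]
    rw [hxe, mu, huc, huw, show d * (c * (c * x)) * d = d * c * d * (d⁻¹ * (c * x) * d) by group,
      hdc, hd.inv, hdw] at key
    exact hba (mul_left_cancel (mul_right_cancel key)).symm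
  have hdx := (hP x hxP).2
  calc (u * v) ^ 4 = g * g := by rw [hg, pow_succ, pow_succ, pow_succ, pow_one]; group
    _ = x * (d * x * d) := by rw [hgx]; group
    _ = 1 := by rw [hdx, h.sq hgd]

theorem card_closure_le {u v : G} (hu : u * u = 1) (hv : v * v = 1) (hw : (u * v) ^ 4 = 1) :
    Nat.card ↥(Subgroup.closure ({u, v} : Set G)) ≤ 8 := by
  classical
  set w := u * v with hwdef
  have huw : ∀ i : ℕ, u * w ^ i = (w⁻¹) ^ i * u := fun i => by
    induction i with
    | zero => simp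
    | succ i ih =>
      rw [pow_succ, ← mul_assoc, ih, pow_succ, hwdef, mul_inv_rev, inv_eq_of_mul_eq_one_right hu,
        inv_eq_of_mul_eq_one_right hv]
      rw [mul_assoc _ u (u * v), ← mul_assoc u u v, hu, one_mul, mul_assoc _ (v * u) u,
        mul_assoc v u u, hu, mul_one]
  have hmod : ∀ i : ℕ, w ^ i = w ^ (i % 4) := fun i => by
    conv_lhs => rw [← Nat.mod_add_div i 4, pow_add, pow_mul, hw, one_pow, mul_one]
  have hinv : w⁻¹ = w ^ 3 := inv_eq_of_mul_eq_one_right (by rw [← pow_succ']; exact hw)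
  have hmem : ∀ y ∈ Subgroup.closure ({u, v} : Set G), ∃ i : ℕ, y = w ^ i ∨ y = w ^ i * u := by
    intro y hy
    induction hy using Subgroup.closure_induction with
    | mem x hx =>
      rcases hx with rfl | rfl
      · exact ⟨0, Or.inr (by simp)⟩
      · refine ⟨3, Or.inr ?_⟩
        rw [← hinv, hwdef, mul_inv_rev, inv_eq_of_mul_eq_one_right hu, inv_eq_of_mul_eq_one_right hv,
          mul_assoc, hu, mul_one]
    | one => exact ⟨0, Or.inl (pow_zero w).symm⟩
    | mul x y _ _ ihx ihy =>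
      obtain ⟨i, hi⟩ := ihx
      obtain ⟨j, hj⟩ := ihy
      rcases hi with rfl | rfl <;> rcases hj with rfl | rfl
      · exact ⟨i + j, Or.inl (pow_add w i j).symm⟩
      · exact ⟨i + j, Or.inr (by rw [pow_add, mul_assoc])⟩
      · exact ⟨i + 3 * j, Or.inr (by rw [mul_assoc, huw, hinv, ← pow_mul, pow_add, mul_assoc])⟩
      · refine ⟨i + 3 * j, Or.inl ?_⟩
        rw [mul_assoc, ← mul_assoc u, huw, hinv, ← pow_mul, mul_assoc _ u u, hu, mul_one, pow_add]
    | inv x _ ih =>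
      obtain ⟨i, rfl | rfl⟩ := ih
      · exact ⟨3 * i, Or.inl (by rw [← inv_pow, hinv, ← pow_mul])⟩
      · refine ⟨9 * i, Or.inr ?_⟩
        rw [mul_inv_rev, inv_eq_of_mul_eq_one_right hu, ← inv_pow, hinv, ← pow_mul, huw, hinv, ← pow_mul,
          ← mul_assoc 3 3 i, show (3 * 3 : ℕ) = 9 from rfl]
  have hsub : (Subgroup.closure ({u, v} : Set G) : Set G) ⊆
      ↑((Finset.range 4).image (w ^ ·) ∪ (Finset.range 4).image (fun i => w ^ i * u)) := by
    intro y hy
    obtain ⟨i, e | e⟩ := hmem y hy <;> rw [hmod] at e <;> rw [Finset.mem_coe, Finset.mem_union]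
    · exact Or.inl (Finset.mem_image.mpr ⟨i % 4, Finset.mem_range.mpr (Nat.mod_lt _ (by norm_num)), e.symm⟩)
    · exact Or.inr (Finset.mem_image.mpr ⟨i % 4, Finset.mem_range.mpr (Nat.mod_lt _ (by norm_num)), e.symm⟩)
  rw [← SetLike.coe_sort_coe, Nat.card_coe_set_eq]
  refine (Set.ncard_le_ncard hsub (Finset.finite_toSet _)).trans ?_
  rw [Set.ncard_coe_finset]
  refine (Finset.card_union_le _ _).trans ?_
  exact (Nat.add_le_add Finset.card_image_le Finset.card_image_le).trans (by simp)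

/-- A complement to `⟨s⟩` in a group of order 504 with exponent three Sylow. -/
theorem exists_part {H : Subgroup G} {s : G} (hsH : s ∈ H) (hs3 : orderOf s = 3)
    (hcard : Nat.card ↥H = 504) (hcent : ∀ y ∈ H, Commute y s)
    (hexp : ∀ y ∈ H, y ^ 9 = 1 → y ^ 3 = 1) :
    ∃ H' : Subgroup G, H' ≤ H ∧ Nat.card ↥H' = 168 ∧ H' ⊓ Subgroup.zpowers s = ⊥ := by
  haveI := Fact.mk Nat.prime_three
  set K : Subgroup ↥H := (Subgroup.zpowers s).subgroupOf H
  have hKc : Nat.card ↥K = 3 := by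
    rw [Nat.card_congr (Subgroup.subgroupOfEquivOfLe (Subgroup.zpowers_le.mpr hsH)).toEquiv,
      Nat.card_zpowers, hs3]
  haveI : K.Normal := ⟨fun n hn g => by
    obtain ⟨i, hi⟩ := Subgroup.mem_subgroupOf.mp hn
    refine Subgroup.mem_subgroupOf.mpr ⟨i, ?_⟩
    have hi' : s ^ i = (n : G) := hi
    show s ^ i = (g : G) * n * (g : G)⁻¹
    rw [← hi', ← conj_zpow, mul_inv_eq_iff_eq_mul.mpr (hcent _ g.2).eq]⟩
  haveI : IsMulCommutative ↥K := by
    haveI : IsCyclic ↥K := isCyclic_of_prime_card hKc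
    infer_instance
  obtain ⟨T, hKT⟩ := (IsPGroup.of_card (n := 1) (by rw [hKc, pow_one])).exists_le_sylow
  have hTc : Nat.card ↥(T : Subgroup ↥H) = 9 := by
    rw [T.card_eq_multiplicity, hcard]
    decide +kernel
  obtain ⟨y, hy, hyK⟩ : ∃ y ∈ (T : Subgroup ↥H), y ∉ K := by
    by_contra hcon
    push Not at hcon
    have := Subgroup.card_le_of_le (show (T : Subgroup ↥H) ≤ K from fun y hy => hcon y hy)
    omega
  have hy3 : y ^ 3 = 1 := by
    have h9 : y ^ 9 = 1 := by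
      have := pow_card_eq_one' (x := (⟨y, hy⟩ : ↥(T : Subgroup ↥H)))
      rw [hTc] at this
      exact congrArg Subtype.val this
    exact Subtype.ext (hexp y y.2 (congrArg Subtype.val h9))
  set A := Subgroup.zpowers y
  have hyo : orderOf y = 3 := orderOf_eq_prime hy3 fun e => hyK (e ▸ one_mem K)
  have hAK : A ⊓ K = ⊥ := by
    have hd : Nat.card ↥(A ⊓ K) ∣ 3 := hKc ▸ Subgroup.card_dvd_of_le inf_le_right
    rcases (Nat.dvd_prime Nat.prime_three).mp hd with e | e
    · exact Subgroup.eq_bot_of_card_eq _ e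
    · exact absurd ((Subgroup.eq_of_le_of_card_ge (inf_le_left : A ⊓ K ≤ A)
        (by rw [e, Nat.card_zpowers, hyo])).ge (Subgroup.mem_zpowers y)).2 hyK
  have hsup : K ⊔ A = (T : Subgroup ↥H) := by
    refine Subgroup.eq_of_le_of_card_ge (sup_le hKT (Subgroup.zpowers_le.mpr hy)) ?_
    have := OffenderComp.Aux.card_sup_inf (H := A) (K := K) (fun x _ => Subgroup.normalizer_eq_top (H := K) ▸ Subgroup.mem_top x)
    rw [hAK, Subgroup.card_bot, mul_one, hKc, Nat.card_zpowers, hyo, sup_comm] at this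
    omega
  obtain ⟨H₁, hH₁⟩ := Cores.Gaschutz.exists_complement (U := (T : Subgroup ↥H)) hKT (by
    have := Subgroup.card_mul_index (T : Subgroup ↥H)
    rw [hTc, hcard] at this
    rw [hKc, show (T : Subgroup ↥H).index = 56 by omega]
    decide) hAK hsup
  refine ⟨H₁.map H.subtype, Subgroup.map_subtype_le _, ?_, ?_⟩
  · rw [Subgroup.card_map_of_injective H.subtype_injective]
    have := hH₁.card_mul
    rw [hKc, hcard] at this
    omega
  · rw [Subgroup.eq_bot_iff_forall]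
    rintro w ⟨⟨w', hw', rfl⟩, hws⟩
    have := hH₁.disjoint.le_bot ⟨Subgroup.mem_subgroupOf.mpr hws, hw'⟩
    rw [Subgroup.mem_bot.mp this]
    rfl

/-- A subgroup isomorphic to `SL(3,2)` normalising the line. -/
theorem IsLam.exists_linear [IsSimpleGroup G] (hG : ¬ IsMulCommutative G) (S : Setting z p)
    (h : IsLam X) (F : AutFacts) {t : G} {I : Subgroup G} (D : SevenData X t I) (hp : PairGen X)
    (hCc : Nat.card ↥(Subgroup.centralizer (X : Set G)) = 2 ^ 15 * 120) :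
    ∃ K : Subgroup G, K ≤ Subgroup.normalizer (X : Set G) ∧ Nonempty (↥K ≃* SL32) := by
  classical
  haveI := Fact.mk Nat.prime_three
  obtain ⟨eI⟩ := D.iso
  obtain ⟨⟨s, hsI⟩, hso⟩ := exists_prime_orderOf_dvd_card' (G := ↥I) 3 (by rw [SymFive.card_eq eI]; norm_num)
  rw [Subgroup.orderOf_mk] at hso
  have hsC := D.le hsI
  obtain ⟨hfix, h48, hthree, hY8064⟩ := h.cent_three_data hG S F D hp hCc hsI hso
  obtain ⟨z', S', hk⟩ := exists_setting_three hG S F hso
  obtain ⟨a, b, c, u, v, ha, h1, hb, hb1, hba, hc, hc', hu, hv, hw4⟩ :=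
    h.exists_dihedral F S' hk hsC hso hfix
  set N := Subgroup.normalizer (X : Set G)
  set C := Subgroup.centralizer (X : Set G)
  obtain ⟨φ, hφs, hφ⟩ : ∃ φ : ↥N →* SL32, Function.Surjective φ ∧ ∀ l, φ l = 1 ↔ (l : G) ∈ C := h.exists_phi F
  set Y := N ⊓ cz s
  have hxs : ∀ {x}, x ∈ X → Commute x s := fun hx => Subgroup.mem_centralizer_iff.mp hsC _ hx
  have hzc : ∀ {y}, Commute y s → Commute y z' := fun hy => (mem_kSub.mp (hk _ hy)).1
  have hzC : z' ∈ C := Subgroup.mem_centralizer_iff.mpr fun x hx => (hzc (hxs hx)).eq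
  have hzs : Commute z' s := S'.p_z.symm
  have hXY : X ≤ Y := fun x hx => ⟨Subgroup.le_normalizer hx, mem_cz.mpr (hxs hx)⟩
  have hzY : Subgroup.zpowers z' ≤ Y := Subgroup.zpowers_le.mpr
    ⟨Subgroup.centralizer_le_normalizer _ hzC, mem_cz.mpr hzs⟩
  set K₀ := X ⊔ Subgroup.zpowers z'
  have hKY : K₀ ≤ Y := sup_le hXY hzY
  have hXnz : X ⊓ Subgroup.zpowers z' = ⊥ := by
    have hd : Nat.card ↥(X ⊓ Subgroup.zpowers z') ∣ 2 := by
      rw [← S'.ord_z, ← Nat.card_zpowers]
      exact Subgroup.card_dvd_of_le inf_le_right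
    rcases (Nat.dvd_prime Nat.prime_two).mp hd with e | e
    · exact Subgroup.eq_bot_of_card_eq _ e
    · exfalso
      have := (Subgroup.eq_of_le_of_card_ge (inf_le_right : X ⊓ Subgroup.zpowers z' ≤ Subgroup.zpowers z')
        (by rw [e, Nat.card_zpowers, S'.ord_z])).ge (Subgroup.mem_zpowers z')
      exact h.ne_center F S' hk hsC hso this.1 rfl
  have hK16 : Nat.card ↥K₀ = 16 := by
    have := OffenderComp.Aux.card_sup_inf (H := X) (K := Subgroup.zpowers z') (fun x hx =>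
      mem_normalizer_zpowers S'.ord_z (by
        rw [mul_inv_eq_iff_eq_mul.mpr (hzc (hxs hx)).eq]; exact Subgroup.mem_zpowers z'))
    rw [hXnz, Subgroup.card_bot, mul_one, h.card, Nat.card_zpowers, S'.ord_z] at this
    exact this
  set K : Subgroup ↥Y := K₀.subgroupOf Y
  have hKc : Nat.card ↥K = 16 := by
    rw [Nat.card_congr (Subgroup.subgroupOfEquivOfLe hKY).toEquiv, hK16]
  have hKn : ∀ y ∈ Y, ∀ n ∈ K₀, y * n * y⁻¹ ∈ K₀ := by
    intro y hy n hn
    have hle : K₀ ≤ K₀.comap (MulAut.conj y).toMonoidHom := sup_le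
      (fun x hx => Subgroup.mem_sup_left ((Subgroup.mem_normalizer_iff.mp hy.1 x).mp hx))
      (Subgroup.zpowers_le.mpr (Subgroup.mem_sup_right (by
        show y * z' * y⁻¹ ∈ _
        rw [mul_inv_eq_iff_eq_mul.mpr (hzc (mem_cz.mp hy.2)).eq]
        exact Subgroup.mem_zpowers z')))
    exact hle hn
  haveI : K.Normal := ⟨fun n hn g => Subgroup.mem_subgroupOf.mpr (hKn g g.2 n hn)⟩
  haveI : IsMulCommutative ↥K := by
    have hcomm : ∀ x ∈ K₀, ∀ y ∈ K₀, x * y = y * x := by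
      have hle : K₀ ≤ Subgroup.centralizer (K₀ : Set G) := by
        rw [Subgroup.le_centralizer_iff]
        refine sup_le (fun x hx => ?_) (Subgroup.zpowers_le.mpr ?_) <;>
          rw [Subgroup.mem_centralizer_iff]
        · intro w hw
          have : K₀ ≤ cz x := sup_le (fun y hy => mem_cz.mpr (h.comm hy hx))
            (Subgroup.zpowers_le.mpr (mem_cz.mpr (hzc (hxs hx)).symm))
          exact (mem_cz.mp (this hw)).eq
        · intro w hw
          have : K₀ ≤ cz z' := sup_le (fun y hy => mem_cz.mpr (hzc (hxs hy)))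
            (Subgroup.zpowers_le.mpr (mem_cz.mpr (Commute.refl z')))
          exact (mem_cz.mp (this hw)).eq
      exact fun x hx y hy => Subgroup.mem_centralizer_iff.mp (hle hy) x hx
    exact ⟨⟨fun x y => Subtype.ext (Subtype.ext (hcomm _ (Subgroup.mem_subgroupOf.mp x.2) _ (Subgroup.mem_subgroupOf.mp y.2)))⟩⟩
  have huY : u ∈ Y := ⟨hu.mem_normalizer h ha h1, mem_cz.mpr hu.comm⟩
  have hvY : v ∈ Y := ⟨hv.mem_normalizer h hb hb1, mem_cz.mpr hv.comm⟩
  let ψ : ↥Y →* SL32 := φ.comp (Subgroup.inclusion inf_le_left)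
  set A : Subgroup ↥Y := Subgroup.closure {⟨u, huY⟩, ⟨v, hvY⟩}
  have hA8 : Nat.card ↥A ≤ 8 := card_closure_le (Subtype.ext hu.sq) (Subtype.ext hv.sq) (Subtype.ext hw4)
  -- its image has order eight
  have hψK : ∀ y ∈ K, ψ y = 1 := by
    intro y hy
    refine (hφ _).mpr ?_
    have hle : K₀ ≤ C := sup_le (fun x hx => Subgroup.mem_centralizer_iff.mpr fun w hw => (h.comm hw hx).eq)
      (Subgroup.zpowers_le.mpr hzC)
    exact hle hy
  have himg : 8 ≤ Nat.card ↥(A.map ψ) := by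
    set U := ψ ⟨u, huY⟩ with hU
    set W := ψ (⟨u, huY⟩ * ⟨v, hvY⟩) with hW
    have hUm : U ∈ A.map ψ := ⟨_, Subgroup.subset_closure (Or.inl rfl), rfl⟩
    have hWm : W ∈ A.map ψ := ⟨_, mul_mem (Subgroup.subset_closure (Or.inl rfl))
      (Subgroup.subset_closure (Or.inr rfl)), rfl⟩
    have hmoves : u * v * (u * v) ∉ C := fun hgC => by
      have hfix' : u * v * (u * v) * c * (u * v * (u * v))⁻¹ = c :=
        mul_inv_eq_iff_eq_mul.mpr (Subgroup.mem_centralizer_iff.mp hgC c hc).symm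
      rw [show u * v * (u * v) * c * (u * v * (u * v))⁻¹ = u * (v * (u * (v * c * v⁻¹) * u⁻¹) * v⁻¹) * u⁻¹ by group,
        hv.fix_other, hu.moves, show v * (c * a) * v⁻¹ = v * c * v⁻¹ * (v * a * v⁻¹) by group, hv.fix_other,
        hv.moves, show u * (c * (a * b)) * u⁻¹ = u * c * u⁻¹ * ((u * a * u⁻¹) * (u * b * u⁻¹)) by group,
        hu.moves, hu.fix_self, hu.fix_other, ← mul_assoc, mul_assoc c a a, h.sq ha, mul_one] at hfix'
      exact hb1 (mul_eq_left.mp hfix')
    have hW2 : W ^ 2 ≠ 1 := fun e => hmoves <| by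
      rw [hW, ← map_pow, pow_two] at e
      exact (hφ _).mp e
    have hWo : orderOf W = 4 := by
      have h4 : W ^ 2 ^ (1 + 1) = 1 := by
        rw [show (2 : ℕ) ^ (1 + 1) = 4 from rfl, hW, ← map_pow,
          show (⟨u, huY⟩ * ⟨v, hvY⟩ : ↥Y) ^ 4 = 1 from Subtype.ext hw4, map_one]
      exact orderOf_eq_prime_pow (p := 2) (n := 1) (by simpa using hW2) h4
    have h4dvd : 4 ∣ Nat.card ↥(A.map ψ) := hWo ▸ (Subgroup.orderOf_mk W hWm ▸ orderOf_dvd_natCard _)
    by_contra hlt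
    push Not at hlt
    have h4' : Nat.card ↥(A.map ψ) = 4 := by
      obtain ⟨k, hk'⟩ := h4dvd
      have := Nat.card_pos (α := ↥(A.map ψ))
      omega
    have heq : Subgroup.zpowers W = A.map ψ := Subgroup.eq_of_le_of_card_ge (Subgroup.zpowers_le.mpr hWm)
      (by rw [Nat.card_zpowers, hWo, h4'])
    obtain ⟨i, hi⟩ := heq.ge hUm
    have hcomm : Commute U W := hi ▸ (Commute.refl W).zpow_left i
    refine hW2 ?_
    have hUU : U * U = 1 := by rw [hU, ← map_mul, show (⟨u, huY⟩ * ⟨u, huY⟩ : ↥Y) = 1 from Subtype.ext hu.sq, map_one]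
    have hV : U * W = ψ ⟨v, hvY⟩ := by rw [hW, map_mul, ← hU, ← mul_assoc, hUU, one_mul]
    have hVV : U * W * (U * W) = 1 := by
      rw [hV, ← map_mul, show (⟨v, hvY⟩ * ⟨v, hvY⟩ : ↥Y) = 1 from Subtype.ext hv.sq, map_one]
    rw [show U * W * (U * W) = U * (W * U) * W by group, ← hcomm.eq, ← mul_assoc, hUU, one_mul] at hVV
    rwa [pow_two]
  have hAc : Nat.card ↥A = 8 := le_antisymm hA8
    (himg.trans (Nat.le_of_dvd Nat.card_pos (Subgroup.card_map_dvd A ψ)))
  have hAK : A ⊓ K = ⊥ := by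
    rw [Subgroup.eq_bot_iff_forall]
    rintro y ⟨hyA, hyK⟩
    let f : ↥A →* ↥(A.map ψ) :=
      (ψ.comp A.subtype).codRestrict _ fun x => Subgroup.mem_map_of_mem ψ x.2
    have hfs : Function.Surjective f := by
      rintro ⟨_, x, hx, rfl⟩
      exact ⟨⟨x, hx⟩, rfl⟩
    have hfi : Function.Injective f := (hfs.bijective_of_nat_card_le (by rw [hAc]; exact himg)).1
    exact congrArg Subtype.val (hfi (a₁ := ⟨y, hyA⟩) (a₂ := 1) (Subtype.ext (by
      show ψ y = ψ 1
      rw [hψK y hyK, map_one])))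
  set U₀ := K ⊔ A
  have hU128 : Nat.card ↥U₀ = 128 := by
    have := OffenderComp.Aux.card_sup_inf (H := A) (K := K) (fun x _ => Subgroup.normalizer_eq_top (H := K) ▸ Subgroup.mem_top x)
    rw [hAK, Subgroup.card_bot, mul_one, hKc, hAc, sup_comm] at this
    exact this
  obtain ⟨H, hH⟩ := Cores.Gaschutz.exists_complement (U := U₀) (A := A) le_sup_left (by
    have := Subgroup.card_mul_index U₀
    rw [hU128, show Nat.card ↥Y = 8064 from hY8064] at this
    rw [hKc, show U₀.index = 63 by omega]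
    decide) hAK rfl
  have hH504 : Nat.card ↥H = 504 := by
    have := hH.card_mul
    rw [hKc, show Nat.card ↥Y = 8064 from hY8064] at this
    omega
  set H' := H.map Y.subtype
  have hH'c : Nat.card ↥H' = 504 := by rw [Subgroup.card_map_of_injective Y.subtype_injective, hH504]
  have hH'Y : H' ≤ Y := Subgroup.map_subtype_le H
  have hH'eq : ∀ {y : G} (hy : y ∈ Y), y ∈ H' ↔ (⟨y, hy⟩ : ↥Y) ∈ H := fun {y} hy =>
    ⟨fun ⟨w, hw, e⟩ => by rwa [show (⟨y, hy⟩ : ↥Y) = w from Subtype.ext e.symm], fun e => ⟨_, e, rfl⟩⟩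
  have hsY : s ∈ Y := ⟨Subgroup.centralizer_le_normalizer _ hsC, mem_cz.mpr (Commute.refl s)⟩
  have hsH : s ∈ H' := by
    refine (hH'eq hsY).mpr ?_
    obtain ⟨⟨⟨k, hkK⟩, ⟨w, hwH⟩⟩, hkw⟩ := hH.2 (⟨s, hsY⟩ : ↥Y)
    have hwC : (w : G) ∈ C := by
      refine (hφ ⟨w, w.2.1⟩).mp ?_
      have : ψ w = 1 := by
        have e : ψ (k * w) = 1 := by
          rw [show k * w = (⟨s, hsY⟩ : ↥Y) from hkw]
          exact (hφ _).mpr hsC
        rwa [map_mul, hψK k hkK, one_mul] at e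
      exact this
    have hkK₀ : (k : G) ∈ K₀ := hkK
    have hkC : K₀ ≤ cz (w : G) := sup_le (fun x hx => mem_cz.mpr (Subgroup.mem_centralizer_iff.mp hwC x hx))
      (Subgroup.zpowers_le.mpr (mem_cz.mpr (hzc (mem_cz.mp w.2.2)).symm))
    have hcw : Commute k w := Subtype.ext (mem_cz.mp (hkC hkK₀)).eq
    have h16 : k ^ 16 = 1 := by
      have e : (⟨k, hkK⟩ : ↥K) ^ Nat.card ↥K = 1 := pow_card_eq_one'
      rw [hKc] at e
      exact congrArg Subtype.val e
    have hs1 : (⟨s, hsY⟩ : ↥Y) = w ^ 16 := by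
      have : (⟨s, hsY⟩ : ↥Y) ^ 16 = ⟨s, hsY⟩ := Subtype.ext (by
        show s ^ 16 = s
        rw [show (16 : ℕ) = 3 * 5 + 1 from rfl, pow_succ, pow_mul, ← hso, pow_orderOf_eq_one, one_pow, one_mul])
      rw [← this, ← show k * w = (⟨s, hsY⟩ : ↥Y) from hkw, hcw.mul_pow, h16, one_mul]
    rw [hs1]
    exact pow_mem hwH 16
  obtain ⟨H'', hH''le, hH''c, hH''s⟩ := exists_part hsH hso hH'c
    (fun y hy => mem_cz.mp (hH'Y hy).2) (fun y hy hy9 => by
      have hyz : y ∈ cz z' := mem_cz.mpr (hzc (mem_cz.mp (hH'Y hy).2))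
      obtain ⟨R, hR, hRc, hyR⟩ := S'.exists_sylow_three F hyz ⟨2, hy9⟩
      obtain ⟨p', S'', hp'R⟩ := S'.exists_mem_three F hR hRc
      have hexp := (S''.three_extraspecial F hR hRc hp'R).2
      have := Monoid.pow_exponent_eq_one (⟨y, hyR⟩ : ↥R)
      rw [hexp] at this
      exact congrArg Subtype.val this)
  have hH''N : H'' ≤ N := (hH''le.trans hH'Y).trans inf_le_left
  let χ : ↥H'' →* SL32 := φ.comp (Subgroup.inclusion hH''N)
  have hχ : Function.Injective χ := by
    rw [injective_iff_map_eq_one]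
    intro w hw
    have hwC : (w : G) ∈ C := (hφ _).mp hw
    have hwY : (w : G) ∈ Y := hH'Y (hH''le w.2)
    have hwH : (⟨(w : G), hwY⟩ : ↥Y) ∈ H := (hH'eq hwY).mp (hH''le w.2)
    set M := (H ⊓ ψ.ker).map Y.subtype
    have hwM : (w : G) ∈ M := ⟨_, ⟨hwH, (hφ _).mpr hwC⟩, rfl⟩
    have hle : H ⊓ ψ.ker ⊔ K ≤ ψ.ker := sup_le inf_le_right fun y hy => hψK y hy
    have hsz : Nat.card ↥(H ⊓ ψ.ker : Subgroup ↥Y) ∣ 3 := by
      have h1 := OffenderComp.Aux.card_sup_inf (H := H ⊓ ψ.ker) (K := K) (fun x _ => Subgroup.normalizer_eq_top (H := K) ▸ Subgroup.mem_top x)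
      have hb : (H ⊓ ψ.ker) ⊓ K = ⊥ :=
        eq_bot_iff.mpr fun y hy => hH.disjoint.le_bot ⟨hy.2, hy.1.1⟩
      rw [hb, Subgroup.card_bot, mul_one, hKc] at h1
      have h2 := h1 ▸ Subgroup.card_dvd_of_le hle
      have h3 : Nat.card ↥ψ.ker = 48 := by
        rw [← h48]
        exact Nat.card_congr
          { toFun := fun x => ⟨x.1.1, ⟨(hφ _).mp x.2, x.1.2.2⟩⟩
            invFun := fun x => ⟨⟨x.1, Subgroup.centralizer_le_normalizer _ x.2.1, x.2.2⟩, (hφ _).mpr x.2.1⟩
            left_inv := fun x => rfl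
            right_inv := fun x => rfl }
      rw [h3, show (48 : ℕ) = 3 * 16 by norm_num] at h2
      exact Nat.dvd_of_mul_dvd_mul_right (by norm_num) h2
    have hw3 : (w : G) ^ 3 = 1 := by
      have e := orderOf_dvd_iff_pow_eq_one.mp ((orderOf_dvd_natCard (⟨⟨(w : G), hwY⟩, hwH, (hφ _).mpr hwC⟩ :
        ↥(H ⊓ ψ.ker : Subgroup ↥Y))).trans hsz)
      exact congrArg (fun q : ↥(H ⊓ ψ.ker : Subgroup ↥Y) => ((q : ↥Y) : G)) e
    have hws := hthree w hwC (mem_cz.mp hwY.2) hw3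
    exact Subtype.ext (Subgroup.mem_bot.mp (hH''s ▸ ⟨w.2, hws⟩))
  exact ⟨H'', hH''N, ⟨MulEquiv.ofBijective χ (hχ.bijective_of_nat_card_le
    (by rw [card_SL32, hH''c]))⟩⟩

end Cfsg.Agent.Lib.J4Line
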