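import Cfsg.Agent.Lib.J4Line.Basic
import Cfsg.Agent.Lib.PGroups.Frattini

/-!
# The group `L` generated by the parts `C_{E_a}(X)` of a line `X`
-/

set_option autoImplicit false
set_option linter.unusedSectionVars false
set_option linter.unusedVariables false

namespace Cfsg.Agent.Lib.J4Line

open scoped Pointwise commutatorElement

open Cfsg.Agent.Lib.J4Local Cfsg.Agent.Lib.LargeExtraspecial.Basic

variable {G : Type*} [Group G] [Finite G] {X : Subgroup G} {a b c : G}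

/-- The large group of the line. -/
def bigL (X : Subgroup G) : Subgroup G := ⨆ a : {a : G // a ∈ X ∧ a ≠ 1}, ySub X a.1

theorem ySub_le_bigL (ha : a ∈ X) (h1 : a ≠ 1) : ySub X a ≤ bigL X :=
  le_iSup (fun a : {a : G // a ∈ X ∧ a ≠ 1} => ySub X a.1) ⟨a, ha, h1⟩

theorem bigL_le_centralizer : bigL X ≤ Subgroup.centralizer (X : Set G) :=
  iSup_le fun _ => inf_le_right

namespace IsLam

theorem exists_other (h : IsLam X) (a : G) : ∃ b ∈ X, b ≠ 1 ∧ b ≠ a := by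
  by_contra hcon
  push Not at hcon
  have : (X : Set G) ⊆ {1, a} := fun b hb => by
    by_cases h1 : b = 1
    · exact Or.inl h1
    · exact Or.inr (hcon b hb h1)
  have h2 := (Set.ncard_le_ncard this (Set.toFinite _)).trans (Set.ncard_insert_le _ _)
  rw [Set.ncard_singleton, ← Nat.card_coe_set_eq, SetLike.coe_sort_coe, h.card] at h2
  omega

/-- A third point completing a basis. -/
theorem exists_third (h : IsLam X) (a b : G) : ∃ c ∈ X, c ≠ 1 ∧ c ≠ a ∧ c ≠ b ∧ c ≠ a * b := by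
  by_contra hcon
  push Not at hcon
  have : (X : Set G) ⊆ {1, a, b, a * b} := fun c hc => by
    by_cases h1 : c = 1
    · exact Or.inl h1
    by_cases h2 : c = a
    · exact Or.inr (Or.inl h2)
    by_cases h3 : c = b
    · exact Or.inr (Or.inr (Or.inl h3))
    · exact Or.inr (Or.inr (Or.inr (hcon c hc h1 h2 h3)))
  have h2 := (Set.ncard_le_ncard this (Set.toFinite _)).trans (Set.ncard_insert_le _ _)
  have h3 : ({a, b, a * b} : Set G).ncard ≤ 3 := by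
    refine (Set.ncard_insert_le _ _).trans (Nat.succ_le_succ ?_)
    exact (Set.ncard_insert_le _ _).trans (by rw [Set.ncard_singleton])
  rw [← Nat.card_coe_set_eq, SetLike.coe_sort_coe, h.card] at h2
  omega

variable (h : IsLam X)
include h

theorem le_core (ha : a ∈ X) (h1 : a ≠ 1) : X ≤ Q a := by
  obtain ⟨q, -, hq⟩ := h.base a ha h1
  exact hq

theorem sq (ha : a ∈ X) : a * a = 1 := by
  by_cases h1 : a = 1
  · rw [h1, one_mul]
  · obtain ⟨q, S, -⟩ := h.base a ha h1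
    exact S.z_sq

theorem comm (ha : a ∈ X) (hb : b ∈ X) : Commute a b :=
  commute_of_sq (fun _ hu => h.sq hu) ha hb

theorem mul_ne_one (ha : a ∈ X) (hb : b ∈ X) (hba : b ≠ a) : a * b ≠ 1 := fun e =>
  hba ((eq_inv_of_mul_eq_one_right e).trans (inv_eq_of_mul_eq_one_right (h.sq ha)))

theorem le_ySub (ha : a ∈ X) (h1 : a ≠ 1) : X ≤ ySub X a := fun x hx =>
  mem_ySub.mpr ⟨h.le_core ha h1 hx, fun l hl => h.comm hl hx⟩

/-- An element of one core fixing a second point of the line and moving a third. -/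
theorem exists_transvection (F : AutFacts) (ha : a ∈ X) (h1 : a ≠ 1) (hb : b ∈ X) (hb1 : b ≠ 1)
    (hba : b ≠ a) : ∃ f ∈ cQ a b, f ∉ Subgroup.centralizer (X : Set G) := by
  obtain ⟨q, S, hS⟩ := h.base a ha h1
  obtain ⟨r, T, hT⟩ := h.base b hb hb1
  obtain ⟨σ, hσ, ho⟩ := T.exists_outer_pair F S (hT ha) (Ne.symm hba)
  refine ⟨σ, hσ, fun hc => ?_⟩
  obtain ⟨hσb, hσa⟩ := mem_cQ.mp hσ
  have hX := h.adj b hb hb1 a ha h1 (Ne.symm hba) r T
  refine T.outer_moves_line (hT ha) h1 (Ne.symm hba) hσa (isQ.commute hσb) ho ?_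
  exact (Subgroup.mem_centralizer_iff.mp hc _ (hX ▸ pe_mem_line b r a)).symm

theorem cQ_conj (ha : a ∈ X) (h1 : a ≠ 1) {f : G} (hf : f ∈ Q a) (hl : c ∈ X) :
    f * c * f⁻¹ = c ∨ f * c * f⁻¹ = c * a := by
  obtain ⟨q, S, hS⟩ := h.base a ha h1
  exact S.es.conj f hf c (hS hl)

theorem xSub_le (F : AutFacts) (ha : a ∈ X) (h1 : a ≠ 1) (hb : b ∈ X) (hb1 : b ≠ 1) (hba : b ≠ a)
    {q : G} (S : Setting a q) : xSub a q b ≤ ySub X b := by
  obtain ⟨r, T, hT⟩ := h.base b hb hb1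
  intro v hv
  refine mem_ySub.mpr ⟨(mem_xSub.mp hv).1.1, fun l hl => ?_⟩
  exact (S.xSub_fix_line F T (h.le_core ha h1 hb) hba hv
    (by rw [h.adj a ha h1 b hb hb1 hba q S]; exact hl)).symm

theorem card_ySub (F : AutFacts) (hb : b ∈ X) (hb1 : b ≠ 1) : Nat.card ↥(ySub X b) = 2 ^ 11 := by
  obtain ⟨a, ha, h1, hab⟩ := h.exists_other b
  obtain ⟨q, S, hS⟩ := h.base a ha h1
  obtain ⟨r, T, hT⟩ := h.base b hb hb1
  have hle : ySub X b ≤ cQ b a := fun v hv =>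
    mem_cQ.mpr ⟨(mem_ySub.mp hv).1, ((mem_ySub.mp hv).2 a ha).symm⟩
  have h12 := T.card_cQ_self S (hT ha) hab
  have h11 := Subgroup.card_le_of_le (h.xSub_le F ha h1 hb hb1 (Ne.symm hab) S)
  rw [S.card_xSub F T (hS hb) (Ne.symm hab)] at h11
  obtain ⟨f, hf, hfc⟩ := h.exists_transvection F hb hb1 ha h1 hab
  have hdvd := Subgroup.card_dvd_of_le hle
  rw [h12, Nat.dvd_prime_pow Nat.prime_two] at hdvd
  obtain ⟨k, hk, hk'⟩ := hdvd
  have hk12 : k ≠ 12 := fun e => hfc <| by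
    have := Subgroup.eq_of_le_of_card_ge hle (by rw [h12, hk', e])
    exact (this ▸ hf : f ∈ ySub X b).2
  rw [hk'] at h11 ⊢
  have : 11 ≤ k := (Nat.pow_le_pow_iff_right (by norm_num)).mp h11
  rw [show k = 11 by omega]

theorem xSub_eq (F : AutFacts) (ha : a ∈ X) (h1 : a ≠ 1) (hb : b ∈ X) (hb1 : b ≠ 1) (hba : b ≠ a)
    {q : G} (S : Setting a q) : xSub a q b = ySub X b := by
  obtain ⟨r, T, hT⟩ := h.base b hb hb1
  refine Subgroup.eq_of_le_of_card_ge (h.xSub_le F ha h1 hb hb1 hba S) ?_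
  rw [h.card_ySub F hb hb1, S.card_xSub F T (h.le_core ha h1 hb) hba]

theorem ySub_inf (F : AutFacts) (ha : a ∈ X) (h1 : a ≠ 1) (hb : b ∈ X) (hb1 : b ≠ 1)
    (hba : b ≠ a) : ySub X a ⊓ ySub X b = Q a ⊓ Q b := by
  obtain ⟨q, S, hS⟩ := h.base a ha h1
  obtain ⟨r, T, hT⟩ := h.base b hb hb1
  refine le_antisymm (inf_le_inf inf_le_left inf_le_left) fun x hx => ?_
  have hall : ∀ l ∈ X, Commute l x := fun l hl =>
    S.comm_pair T hba ⟨hS hl, hT hl⟩ hx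
  exact ⟨mem_ySub.mpr ⟨hx.1, hall⟩, mem_ySub.mpr ⟨hx.2, hall⟩⟩

omit h in
theorem conj_mem_ySub {g x : G} (hg : g ∈ Subgroup.centralizer (X : Set G)) (ha : a ∈ X)
    (hx : x ∈ ySub X a) : g * x * g⁻¹ ∈ ySub X a :=
  ⟨isQ.normal (Subgroup.mem_centralizer_iff.mp hg a ha).symm hx.1,
    (Subgroup.centralizer (X : Set G)).mul_mem ((Subgroup.centralizer (X : Set G)).mul_mem hg hx.2)
      ((Subgroup.centralizer (X : Set G)).inv_mem hg)⟩

omit h in
theorem centralizer_le_normalizer_ySub (ha : a ∈ X) :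
    Subgroup.centralizer (X : Set G) ≤ Subgroup.normalizer (ySub X a : Set G) := fun g hg =>
  Subgroup.mem_normalizer_iff.mpr fun x => ⟨fun hx => conj_mem_ySub hg ha hx, fun hx => by
    simpa [mul_assoc] using conj_mem_ySub (inv_mem hg) ha hx⟩

theorem card_pairSub (F : AutFacts) (ha : a ∈ X) (h1 : a ≠ 1) (hb : b ∈ X) (hb1 : b ≠ 1)
    (hba : b ≠ a) : Nat.card ↥(ySub X a ⊔ ySub X b) = 2 ^ 15 := by
  have hm := OffenderComp.Aux.card_sup_inf (H := ySub X a) (K := ySub X b)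
    ((inf_le_right : ySub X a ≤ _).trans (centralizer_le_normalizer_ySub hb))
  obtain ⟨q, S, hS⟩ := h.base a ha h1
  obtain ⟨r, T, hT⟩ := h.base b hb hb1
  rw [h.ySub_inf F ha h1 hb hb1 hba, S.card_inter F T (hS hb) hba, h.card_ySub F ha h1,
    h.card_ySub F hb hb1] at hm
  omega

omit h in
theorem exists_mul (ha : a ∈ X) {x : G} (hx : x ∈ ySub X a ⊔ ySub X b) :
    ∃ u ∈ ySub X a, ∃ v ∈ ySub X b, x = u * v := by
  have h1 : (↑(ySub X b ⊔ ySub X a) : Set G) = (ySub X b : Set G) * ySub X a :=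
    Subgroup.coe_mul_of_left_le_normalizer_right (ySub X b) (ySub X a)
      ((inf_le_right : ySub X b ≤ _).trans (centralizer_le_normalizer_ySub ha))
  rw [sup_comm] at hx
  have hx' : x ∈ (ySub X b : Set G) * ySub X a := h1 ▸ hx
  obtain ⟨v, hv, u, hu, rfl⟩ := Set.mem_mul.mp hx'
  exact ⟨v * u * v⁻¹, conj_mem_ySub hv.2 ha hu, v, hv, by group⟩

/-- A common point of all the parts lies in the line. -/
theorem mem_of_forall (F : AutFacts) {x : G} (hx : ∀ a ∈ X, a ≠ 1 → x ∈ ySub X a) : x ∈ X := by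
  obtain ⟨a, ha, h1, -⟩ := h.exists_other 1
  obtain ⟨b, hb, hb1, hba⟩ := h.exists_other a
  obtain ⟨q, S, hS⟩ := h.base a ha h1
  obtain ⟨r, T, hT⟩ := h.base b hb hb1
  have hl := h.adj a ha h1 b hb hb1 hba q S
  have hc : q * b * q⁻¹ ∈ X := hl ▸ pe_mem_line a q b
  have := S.tSub_inf F T (hS hb) hba
  rw [hl] at this
  rw [← this]
  exact ⟨⟨(hx b hb hb1).1, (hx _ hc fun e => hb1 (conj_eq_one_iff.mp e)).1⟩, (hx a ha h1).1⟩

/-- The parts are nonabelian: each point of the line is a commutator. -/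
theorem exists_commutator (F : AutFacts) (ha : a ∈ X) (h1 : a ≠ 1) :
    ∃ u ∈ ySub X a, ∃ v ∈ ySub X a, u * v * u⁻¹ * v⁻¹ = a := by
  obtain ⟨q, S, hS⟩ := h.base a ha h1
  obtain ⟨b, hb, hb1, hba⟩ := h.exists_other a
  obtain ⟨r, T, hT⟩ := h.base b hb hb1
  by_contra hcon
  push Not at hcon
  have hle : ySub X a ≤ Q a ⊓ Q b := fun u hu => by
    refine S.perp_inter F T (hS hb) hba hu.1 fun d hd => ?_
    have hdY := (h.ySub_inf F ha h1 hb hb1 hba).ge hd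
    rcases S.es.conj u hu.1 d hd.1 with e | e
    · exact mul_inv_eq_iff_eq_mul.mp e
    · exact absurd (by rw [e, (S.es.comm d hd.1).eq, mul_inv_cancel_right] :
        u * d * u⁻¹ * d⁻¹ = a) (hcon u hu d hdY.1)
  have := Subgroup.card_le_of_le hle
  rw [h.card_ySub F ha h1, S.card_inter F T (hS hb) hba] at this
  norm_num at this

/-- A central element of a pair lies in each part. -/
theorem centre_mem (F : AutFacts) (ha : a ∈ X) (h1 : a ≠ 1) (hb : b ∈ X) (hb1 : b ≠ 1) (hba : b ≠ a)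
    {x : G} (hx : x ∈ ySub X a ⊔ ySub X b) (hc : ∀ y ∈ ySub X a ⊔ ySub X b, Commute x y) :
    x ∈ ySub X a := by
  obtain ⟨q, S, hS⟩ := h.base a ha h1
  obtain ⟨r, T, hT⟩ := h.base b hb hb1
  obtain ⟨u, hu, v, hv, rfl⟩ := exists_mul (a := a) ha hx
  by_cases hvQ : v ∈ Q a
  · exact mul_mem hu (mem_ySub.mpr ⟨hvQ, (mem_ySub.mp hv).2⟩)
  have hv' : v ∈ xSub a q b := (h.xSub_eq F ha h1 hb hb1 hba S).symm ▸ hv
  obtain ⟨d, hd, hdv⟩ := S.exists_moved F T (hS hb) hba hv' hvQ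
  have hdY : d ∈ ySub X a ⊔ ySub X b := Subgroup.mem_sup_left ((h.ySub_inf F ha h1 hb hb1 hba).ge hd).1
  have hfix : u * v * d * (u * v)⁻¹ = d := mul_inv_eq_iff_eq_mul.mpr (hc d hdY).eq
  rw [show u * v * d * (u * v)⁻¹ = (u * (v * d * v⁻¹) * u⁻¹) by group, hdv,
    show u * (d * b) * u⁻¹ = u * d * u⁻¹ * (u * b * u⁻¹) by group,
    mul_inv_eq_iff_eq_mul.mpr ((mem_ySub.mp hu).2 b hb).symm.eq] at hfix
  rcases S.es.conj u hu.1 d hd.1 with e | e <;> rw [e] at hfix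
  · exact absurd (mul_eq_left.mp hfix) hb1
  · rw [mul_assoc] at hfix
    exact absurd (mul_eq_left.mp hfix) (h.mul_ne_one ha hb hba)

end IsLam

/-- Any two parts generate the large group. -/
def PairGen (X : Subgroup G) : Prop :=
  ∀ a ∈ X, a ≠ 1 → ∀ b ∈ X, b ≠ 1 → b ≠ a → bigL X = ySub X a ⊔ ySub X b

namespace IsLam

theorem card_bigL (h : IsLam X) (F : AutFacts) (hp : PairGen X) : Nat.card ↥(bigL X) = 2 ^ 15 := by
  obtain ⟨a, ha, h1, -⟩ := h.exists_other 1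
  obtain ⟨b, hb, hb1, hba⟩ := h.exists_other a
  rw [hp a ha h1 b hb hb1 hba, h.card_pairSub F ha h1 hb hb1 hba]

theorem sq_comm_mem (h : IsLam X) (F : AutFacts) (hp : PairGen X) (ha : a ∈ X) (h1 : a ≠ 1)
    {x y : G} (hx : x ∈ bigL X) (hy : y ∈ bigL X) :
    x * x ∈ ySub X a ∧ x * y * x⁻¹ * y⁻¹ ∈ ySub X a := by
  obtain ⟨b, hb, hb1, hba⟩ := h.exists_other a
  rw [hp a ha h1 b hb hb1 hba] at hx hy
  obtain ⟨u, hu, v, hv, rfl⟩ := exists_mul (a := a) ha hx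
  obtain ⟨u', hu', v', hv', rfl⟩ := exists_mul (a := a) ha hy
  obtain ⟨r, T, hT⟩ := h.base b hb hb1
  set C := Subgroup.centralizer (X : Set G)
  haveI : ((ySub X a).subgroupOf C).Normal := ⟨fun n hn g => conj_mem_ySub g.2 ha hn⟩
  set φ := QuotientGroup.mk' ((ySub X a).subgroupOf C)
  have hmem : ∀ {w : G} (hw : w ∈ C), φ ⟨w, hw⟩ = 1 ↔ w ∈ ySub X a := fun hw => by
    simp [φ, Subgroup.mem_subgroupOf]
  have hu1 : ∀ {w : G} (hw : w ∈ ySub X a), φ ⟨w, hw.2⟩ = 1 := fun hw => (hmem _).mpr hw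
  have hb' : φ ⟨b, (h.le_ySub ha h1 hb).2⟩ = 1 := hu1 (h.le_ySub ha h1 hb)
  have hvv : φ ⟨v, hv.2⟩ * φ ⟨v, hv.2⟩ = 1 := by
    rw [← map_mul]
    refine (hmem (mul_mem hv.2 hv.2)).mpr ?_
    rcases T.es.sq_cases hv.1 with e | e <;> rw [e]
    exacts [one_mem _, h.le_ySub ha h1 hb]
  have hvc : φ ⟨v, hv.2⟩ * φ ⟨v', hv'.2⟩ = φ ⟨v', hv'.2⟩ * φ ⟨v, hv.2⟩ := by
    have key : φ ⟨v * v' * v⁻¹, mul_mem (mul_mem hv.2 hv'.2) (inv_mem hv.2)⟩ = φ ⟨v', hv'.2⟩ := by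
      rcases T.es.conj v hv.1 v' hv'.1 with e | e
      · exact congrArg φ (Subtype.ext e)
      · rw [show (⟨v * v' * v⁻¹, mul_mem (mul_mem hv.2 hv'.2) (inv_mem hv.2)⟩ : ↥C) =
          ⟨v', hv'.2⟩ * ⟨b, (h.le_ySub ha h1 hb).2⟩ from Subtype.ext e, map_mul, hb', mul_one]
    calc φ ⟨v, hv.2⟩ * φ ⟨v', hv'.2⟩
        = φ ⟨v * v' * v⁻¹, mul_mem (mul_mem hv.2 hv'.2) (inv_mem hv.2)⟩ * φ ⟨v, hv.2⟩ := by
          rw [← map_mul, ← map_mul]
          exact congrArg φ (Subtype.ext (show v * v' = v * v' * v⁻¹ * v by group))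
      _ = φ ⟨v', hv'.2⟩ * φ ⟨v, hv.2⟩ := by rw [key]
  have hx' : φ ⟨u * v, mul_mem hu.2 hv.2⟩ = φ ⟨v, hv.2⟩ := by
    rw [show (⟨u * v, mul_mem hu.2 hv.2⟩ : ↥C) = ⟨u, hu.2⟩ * ⟨v, hv.2⟩ from rfl, map_mul, hu1 hu, one_mul]
  have hy' : φ ⟨u' * v', mul_mem hu'.2 hv'.2⟩ = φ ⟨v', hv'.2⟩ := by
    rw [show (⟨u' * v', mul_mem hu'.2 hv'.2⟩ : ↥C) = ⟨u', hu'.2⟩ * ⟨v', hv'.2⟩ from rfl, map_mul,
      hu1 hu', one_mul]
  constructor
  · refine (hmem (mul_mem (mul_mem hu.2 hv.2) (mul_mem hu.2 hv.2))).mp ?_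
    rw [show (⟨u * v * (u * v), _⟩ : ↥C) = ⟨u * v, mul_mem hu.2 hv.2⟩ * ⟨u * v, mul_mem hu.2 hv.2⟩
      from rfl, map_mul, hx', hvv]
  · have hX' : u * v ∈ C := mul_mem hu.2 hv.2
    have hY' : u' * v' ∈ C := mul_mem hu'.2 hv'.2
    refine (hmem (mul_mem (mul_mem (mul_mem hX' hY') (inv_mem hX')) (inv_mem hY'))).mp ?_
    rw [show (⟨u * v * (u' * v') * (u * v)⁻¹ * (u' * v')⁻¹, _⟩ : ↥C) =
      ⟨u * v, hX'⟩ * ⟨u' * v', hY'⟩ * (⟨u * v, hX'⟩)⁻¹ * (⟨u' * v', hY'⟩)⁻¹ from rfl, map_mul, map_mul,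
      map_mul, map_inv, map_inv, hx', hy', hvc, mul_inv_cancel_right, mul_inv_cancel]

theorem le_bigL (h : IsLam X) : X ≤ bigL X := fun x hx => by
  by_cases h1 : x = 1
  · rw [h1]; exact one_mem _
  · exact ySub_le_bigL hx h1 (h.le_ySub hx h1 hx)

theorem center_bigL (h : IsLam X) (F : AutFacts) (hp : PairGen X) :
    Subgroup.center ↥(bigL X) = X.subgroupOf (bigL X) := by
  ext x
  rw [Subgroup.mem_center_iff, Subgroup.mem_subgroupOf]
  constructor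
  · intro hx
    refine h.mem_of_forall F fun a ha h1 => ?_
    obtain ⟨b, hb, hb1, hba⟩ := h.exists_other a
    have he := hp a ha h1 b hb hb1 hba
    refine h.centre_mem F ha h1 hb hb1 hba (he ▸ x.2) fun y hy => ?_
    exact (congrArg Subtype.val (hx ⟨y, he.symm ▸ hy⟩)).symm
  · intro hx y
    exact Subtype.ext (Subgroup.mem_centralizer_iff.mp (bigL_le_centralizer y.2) _ hx).symm

theorem commutator_bigL (h : IsLam X) (F : AutFacts) (hp : PairGen X) :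
    commutator ↥(bigL X) = X.subgroupOf (bigL X) := by
  refine le_antisymm ?_ ?_
  · rw [commutator_def, Subgroup.commutator_le]
    intro x _ y _
    rw [Subgroup.mem_subgroupOf, commutatorElement_def]
    exact h.mem_of_forall F fun a ha h1 => (h.sq_comm_mem F hp ha h1 x.2 y.2).2
  · intro x hx
    rw [Subgroup.mem_subgroupOf] at hx
    by_cases h1 : (x : G) = 1
    · rw [show x = 1 from Subtype.ext h1]; exact one_mem _
    obtain ⟨u, hu, v, hv, huv⟩ := h.exists_commutator F hx h1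
    have hm := Subgroup.commutator_mem_commutator
      (Subgroup.mem_top (⟨u, ySub_le_bigL hx h1 hu⟩ : ↥(bigL X)))
      (Subgroup.mem_top (⟨v, ySub_le_bigL hx h1 hv⟩ : ↥(bigL X)))
    rwa [show x = ⁅(⟨u, ySub_le_bigL hx h1 hu⟩ : ↥(bigL X)), ⟨v, ySub_le_bigL hx h1 hv⟩⁆ from
      Subtype.ext (by rw [commutatorElement_def]; exact huv.symm)]

theorem isSpecial_bigL (h : IsLam X) (F : AutFacts) (hp : PairGen X) :
    Cfsg.IsSpecial 2 ↥(bigL X) := by
  haveI : Fact (Nat.Prime 2) := ⟨Nat.prime_two⟩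
  have hpg : IsPGroup 2 ↥(bigL X) := IsPGroup.of_card (h.card_bigL F hp)
  have hcc : commutator ↥(bigL X) = Subgroup.center ↥(bigL X) :=
    (h.commutator_bigL F hp).trans (h.center_bigL F hp).symm
  refine ⟨hpg, le_antisymm ?_ (hcc ▸ PGroups.commutator_le_frattini hpg), hcc⟩
  refine PGroups.frattini_le_of_pow_commutator (p := 2) _ (fun x => ?_) hcc.le
  rw [h.center_bigL F hp, Subgroup.mem_subgroupOf, Subgroup.coe_pow, pow_two]
  exact h.mem_of_forall F fun a ha h1 => (h.sq_comm_mem F hp ha h1 x.2 x.2).1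

theorem card_center_bigL (h : IsLam X) (F : AutFacts) (hp : PairGen X) :
    Nat.card ↥(Subgroup.center ↥(bigL X)) = 8 := by
  rw [h.center_bigL F hp, Nat.card_congr (Subgroup.subgroupOfEquivOfLe h.le_bigL).toEquiv, h.card]

end IsLam

end Cfsg.Agent.Lib.J4Line
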